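import Cfsg.Agent.LocalEven50.Family.Words

/-!
# Infinite critical chains

If every critical word has a target that can be prolonged, there is a sequence of nodes in which
every window is critical.  Windows of length at least three are impossible.
-/

set_option linter.style.haveILetI false
set_option linter.unusedSectionVars false

namespace CfsgLib.LocalEven50.Family

open Subgroup Cfsg CfsgLib.LocalEven50
open scoped commutatorElement

universe u

variable {p : ℕ} [Fact p.Prime] {S : Type u} [Group S] [Finite S]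

/-- `m` has a node `j` of the family with `Z_j Z_m` not normal. -/
def HasEdge (U : Subgroup S) (m : Node p S) : Prop :=
  ∃ j : Node p S, ¬ j.Central U ∧ ¬ ((j.V ⊔ m.V).map m.τ).Normal

/-- Every critical word can be given a target with an edge. -/
def Prolongs (p : ℕ) [Fact p.Prime] (U : Subgroup S) (k : ℕ) : Prop :=
  ∀ (n : Node p S) (w : List (Σ m : Node p S, m.G)) (e : Node p S), Crit p U k n w e →
    ∃ m : Node p S, HasEdge U m ∧ Crit p U k m w e

/-- The word `N (t+i), …, N (t+1)`. -/
def wd (N : ℕ → Node p S) (t : ℕ) : ℕ → List (Σ m : Node p S, m.G)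
  | 0 => []
  | i + 1 => ⟨N (t + i + 1), (N (t + i + 1)).a⟩ :: wd N t i

theorem wd_length (N : ℕ → Node p S) (t i : ℕ) : (wd N t i).length = i := by
  induction i with
  | zero => rfl
  | succ i ih => rw [wd, List.length_cons, ih]

theorem wd_add (N : ℕ → Node p S) (t i j : ℕ) :
    wd N t (i + j) = wd N (t + i) j ++ wd N t i := by
  induction j with
  | zero => rfl
  | succ j ih =>
    rw [← add_assoc, wd, wd, List.cons_append, ← ih, ← add_assoc t i j]

theorem wd_succ' (N : ℕ → Node p S) (t i : ℕ) :
    wd N t (i + 1) = wd N (t + 1) i ++ [⟨N (t + 1), (N (t + 1)).a⟩] := by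
  rw [add_comm i 1, wd_add]
  rfl

/-- A sequence in which every window is critical. -/
theorem exists_chain {U : Subgroup S} {k : ℕ} (hk : 1 ≤ k) (hsm : Small p U k)
    (hP : Prolongs p U k) {n : Node p S} {w : List (Σ m : Node p S, m.G)} {e : Node p S}
    (C : Crit p U k n w e) :
    ∃ N : ℕ → Node p S, ∀ t, Crit p U k (N (t + k + 1)) (wd N t k) (N t) := by
  classical
  have step : ∀ s : {s : Node p S × List (Σ m : Node p S, m.G) × Node p S // HasEdge U s.1 ∧ Crit p U k s.1 s.2.1 s.2.2},
      ∃ s' : {s : Node p S × List (Σ m : Node p S, m.G) × Node p S // HasEdge U s.1 ∧ Crit p U k s.1 s.2.1 s.2.2},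
        s'.1.2.1 = ⟨s.1.1, s.1.1.a⟩ :: s.1.2.1.dropLast ∧
      ∀ h : s.1.2.1 ≠ [], s'.1.2.2 = (s.1.2.1.getLast h).1 := by
    rintro ⟨⟨n, w, e⟩, ⟨j, hj, hne⟩, C⟩
    have hw : w ≠ [] := fun h => by
      have hl : w.length = k := C.length
      rw [h, List.length_nil] at hl
      omega
    have C' : Crit p U k n (w.dropLast ++ [w.getLast hw]) e := by
      rw [List.dropLast_append_getLast]; exact C
    obtain ⟨m, hm, C''⟩ := hP _ _ _ (C'.shift hsm hj hne)
    exact ⟨⟨(m, _, _), hm, C''⟩, rfl, fun _ => rfl⟩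
  choose f hf1 hf2 using step
  obtain ⟨m, hm, C₀⟩ := hP n w e C
  obtain ⟨s, hstep⟩ : ∃ s : ℕ → {s : Node p S × List (Σ m : Node p S, m.G) × Node p S // HasEdge U s.1 ∧ Crit p U k s.1 s.2.1 s.2.2},
      ∀ t, s (t + 1) = f (s t) :=
    ⟨fun t => Nat.rec ⟨(m, w, e), hm, C₀⟩ (fun _ x => f x) t, fun _ => rfl⟩
  have hs : ∀ t, (s (t + 1)).1.2.1 = ⟨(s t).1.1, (s t).1.1.a⟩ :: (s t).1.2.1.dropLast :=
    fun t => by rw [hstep]; exact hf1 (s t)
  set N : ℕ → Node p S := fun t => (s t).1.1 with hN
  have hlen : ∀ t, (s t).1.2.1.length = k := fun t => (s t).2.2.length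
  -- after `i ≤ k` steps the first `i` letters are nodes of the sequence
  have key : ∀ t, ∀ i ≤ k, (s (t + i + 1)).1.2.1.take (i + 1) =
      (wd N t i ++ [(⟨N t, (N t).a⟩ : Σ m : Node p S, m.G)]).take k := by
    intro t i
    induction i with
    | zero =>
      intro _
      rw [Nat.add_zero, hs, wd, List.nil_append]
      cases k with
      | zero => omega
      | succ k => rw [List.take_succ_cons, List.take_succ_cons, List.take_zero, List.take_nil]
    | succ i ih =>
      intro hi
      have h1 := ih (by omega)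
      rw [show t + (i + 1) + 1 = (t + i + 1) + 1 by omega, hs, wd, List.cons_append,
        List.take_succ_cons, List.dropLast_eq_take, hlen, List.take_take]
      obtain ⟨k', rfl⟩ : ∃ k', k = k' + 1 := ⟨k - 1, by omega⟩
      rw [List.take_succ_cons]
      congr 1
      have h2 := congrArg (List.take k') h1
      rw [List.take_take, List.take_take, min_eq_left (Nat.le_succ k')] at h2
      rw [Nat.add_sub_cancel, min_comm]
      exact h2
  refine ⟨N, fun t => ?_⟩
  obtain ⟨k', rfl⟩ : ∃ k', k = k' + 1 := ⟨k - 1, by omega⟩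
  -- the word one step before the end
  have hw : (s (t + k' + 1)).1.2.1 = wd N t k' ++ [(⟨N t, (N t).a⟩ : Σ m : Node p S, m.G)] := by
    have := key t k' (Nat.le_succ k')
    rwa [List.take_of_length_le (hlen _).le,
      List.take_of_length_le (by rw [List.length_append, wd_length]; rfl)] at this
  have h := (s (t + k' + 1 + 1)).2.2
  have e1 : (s (t + k' + 1 + 1)).1.2.1 = wd N t (k' + 1) := by
    rw [hs, hw, List.dropLast_concat, wd]
  have e2 : (s (t + k' + 1 + 1)).1.2.2 = N t := by
    have := hf2 (s (t + k' + 1)) (by rw [hw]; simp)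
    rw [hstep, this]
    simp [hw]
  rw [e1, e2] at h
  exact h

/-- There are no chains with windows of length three or more. -/
theorem no_long_chain {U : Subgroup S} {j : ℕ} (hsm : Small p U (j + 2)) {N : ℕ → Node p S}
    (hN : ∀ t, Crit p U (j + 2) (N (t + (j + 2) + 1)) (wd N t (j + 2)) (N t)) : False := by
  set m := N (j + 4) with hm
  set l := N (j + 3) with hl
  set u' : List (Σ m : Node p S, m.G) := wd N 2 j with hu'
  set u : List (Σ m : Node p S, m.G) := ⟨l, l.a⟩ :: u' with hu
  set c1 : Σ m : Node p S, m.G := ⟨N 1, (N 1).a⟩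
  set c2 : Σ m : Node p S, m.G := ⟨N 2, (N 2).a⟩
  have C1 := hN 1
  rw [show 1 + (j + 2) + 1 = j + 4 by omega, wd_succ',
    show wd N (1 + 1) (j + 1) = u by
      show (⟨N (2 + j + 1), _⟩ : Σ m : Node p S, m.G) :: wd N 2 j = _
      rw [show 2 + j + 1 = j + 3 by omega]] at C1
  have C0 := hN 0
  rw [show 0 + (j + 2) + 1 = j + 3 by omega, show j + 2 = 2 + j by omega, wd_add,
    show wd N (0 + 2) j ++ wd N 0 2 = u' ++ [c2, c1] from rfl,
    show 2 + j = j + 2 by omega] at C0
  have Ct := hN (j + 3)
  rw [wd_succ'] at Ct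
  have hnn : ¬ ((l.V ⊔ m.V).map m.τ).Normal := Ct.tail hsm
  have hmb : ¬ m.Central U := C1.target
  have hlb : ¬ l.Central U := C0.target
  have h1b : ¬ (N 1).Central U := C1.last
  have h0b : ¬ (N 0).Central U := C0.last
  have h2b : ¬ (N 2).Central U := C1.bad c2 (List.mem_append_right u List.mem_cons_self)
  have hub : BadW U u := fun d hd => C1.bad d (List.mem_append_left _ hd)
  have hu'b : BadW U u' := fun d hd => hub d (List.mem_cons_of_mem _ hd)
  have hu'len : u'.length = j := wd_length _ _ _
  have hulen : u.length = j + 1 := by rw [hu, List.length_cons, hu'len]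
  set W := pushW u (N 2).V with hW
  have hWlev : W ∈ lev p U (j + 1) := by
    have := pushW_mem_lev hub (mem_lev_zero h2b)
    rwa [hulen, Nat.zero_add] at this
  have hWR : W ≤ m.R := hsm _ (by omega) _ hWlev _ hmb
  have hlR : l.V ≤ m.R := hsm 0 (by omega) _ (mem_lev_zero hlb) _ hmb
  -- the commutator is nontrivial
  set E := ⁅l.V, m.act m.a W⁆ with hE
  have hEne : E ≠ ⊥ := (C1.shift hsm hlb hnn).ne_bot
  set E' := m.act m.a⁻¹ E
  have hE' : E' = ⁅m.act m.a⁻¹ l.V, W⁆ := by
    show m.act _ _ = _
    rw [hE, m.act_commutator hlR (m.act_le hWR), m.act_inv_act hWR]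
  have hEc : E ≤ center S := (commutator_mono le_rfl le_top).trans l.quad
  have hER : E ≤ m.R := hEc.trans m.center_le_R
  -- `E'` is below the image of the centre
  have hcV : center S ≤ (N 2).V := (N 2).center_le_V
  have hg2 := goodW hsm hub (mem_lev_zero h2b) (by rw [hulen]; omega)
  have hE'u : E' ≤ pushW u (center S) := by
    obtain ⟨eY, hgY⟩ := push_pullW hsm hub (act_mem_lev hmb m.a⁻¹ (mem_lev_zero hlb))
      (by rw [hulen]; omega)
    rw [hE', ← eY, hW, pushW_commutator hgY hg2]
    refine pushW_mono u ?_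
    rw [commutator_comm]
    exact (commutator_mono le_rfl le_top).trans (N 2).quad
  have hE'c : E' ≤ center S := by
    refine m.fix' ?_ C1.crit ?_
    · exact (m.act_mono (hEc.trans m.center_le_V)).trans (m.act_V _).le
    · rw [pushW_append]
      refine le_bot_iff.mp ((commutator_mono (hE'u.trans (pushW_mono u hcV)) le_rfl).trans
        (pushW_comm u ?_).le)
      exact (N 2).le_R_iff.mp ((N 2).act_le (hsm 0 (by omega) _ (mem_lev_zero h1b) _ h2b))
  -- hence it is fixed by the node `m`
  have hEG : E.map m.τ ≤ zG p m.G := by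
    rw [← m.core.inf_eq]
    refine le_inf ((map_mono hEc).trans m.map_center.le) ?_
    have h1 := cj_mono (a := m.a) ((map_mono hE'c).trans m.map_center.le)
    rwa [m.map_act hER, cj_cj_inv] at h1
  have hEE : E' = E := by
    haveI : (E.map m.τ).Normal := normal_of_central (hEG.trans inf_le_right)
    apply map_injective m.inj
    rw [m.map_act hER, cj_normal]
  -- and by the node `l`
  have hgu' : GoodW u' (center S) := hg2.2.mono hcV
  have hu'c : pushW u' (center S) ≤ l.R := (pushW_mono u' hcV).trans hg2.1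
  have hEl : l.act l.a⁻¹ E ≤ pushW u' (center S) :=
    (l.act_mono (hEE.ge.trans hE'u)).trans (l.act_inv_act hu'c).le
  have hElc : l.act l.a⁻¹ E ≤ center S := by
    refine l.fix' ((l.act_mono (hEc.trans l.center_le_V)).trans (l.act_V _).le) C0.crit ?_
    rw [pushW_append]
    refine le_bot_iff.mp ((commutator_mono (hEl.trans (pushW_mono u' hcV)) le_rfl).trans
      (pushW_comm u' ?_).le)
    exact (N 2).le_R_iff.mp ((N 2).act_le
      (hsm 1 (by omega) _ (act_mem_lev h1b _ (mem_lev_zero h0b)) _ h2b))
  have hElG : E.map l.τ ≤ zG p l.G := by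
    rw [← l.core.inf_eq]
    refine le_inf ((map_mono hEc).trans l.map_center.le) ?_
    have h1 := cj_mono (a := l.a) ((map_mono hElc).trans l.map_center.le)
    rwa [l.map_act (hEc.trans l.center_le_R), cj_cj_inv] at h1
  refine hEne (le_bot_iff.mp (commutator_le.mpr fun v hv s hs => mem_bot.mpr (l.inj ?_)))
  rw [map_commutatorElement, map_one]
  exact l.core.commutator_eq_one (l.map_V ▸ mem_map_of_mem l.τ hv) ⟨s, rfl⟩
    (by rw [← map_commutatorElement]
        exact hElG (mem_map_of_mem l.τ (commutator_mem_commutator hv hs)))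

end CfsgLib.LocalEven50.Family
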