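import Cfsg.Agent.LocalEven50.Family.Node

/-!
# The closure of the subgroups `Z(O_p)`

`lev U i` consists of the images of the `Z(O_p)` of the nodes in which `U` is not central, under
words of length `i` in conjugation by these nodes.  If all of them stay below every `O_p`, then
their join `T` gives a characteristic centrally large `T C(T)`, normal in every node.
-/

set_option linter.style.haveILetI false
set_option linter.unusedSectionVars false

namespace CfsgLib.LocalEven50.Family

open Subgroup Cfsg CfsgLib.LocalEven50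
open scoped commutatorElement

universe u

variable {p : ℕ} [Fact p.Prime] {S : Type u} [Group S] [Finite S]

/-- Images of the `Z(O_p)` under words of length `i`. -/
def lev (p : ℕ) [Fact p.Prime] (U : Subgroup S) : ℕ → Set (Subgroup S)
  | 0 => {X | ∃ n : Node p S, ¬ n.Central U ∧ X = n.V}
  | i + 1 => {Y | ∃ n : Node p S, ¬ n.Central U ∧ ∃ g : n.G, ∃ X ∈ lev p U i, Y = n.act g X}

/-- The levels below `k` lie below every `O_p`. -/
def Small (p : ℕ) [Fact p.Prime] (U : Subgroup S) (k : ℕ) : Prop :=
  ∀ i < k, ∀ X ∈ lev p U i, ∀ n : Node p S, ¬ n.Central U → X ≤ n.R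

theorem mem_lev_zero {U : Subgroup S} {n : Node p S} (hn : ¬ n.Central U) : n.V ∈ lev p U 0 :=
  ⟨n, hn, rfl⟩

theorem act_mem_lev {U : Subgroup S} {n : Node p S} (hn : ¬ n.Central U) (g : n.G) {i : ℕ}
    {X : Subgroup S} (hX : X ∈ lev p U i) : n.act g X ∈ lev p U (i + 1) :=
  ⟨n, hn, g, X, hX, rfl⟩

theorem comap_mem_lev {U : Subgroup S} [U.Characteristic] (φ : MulAut S) :
    ∀ {i : ℕ} {X : Subgroup S}, X ∈ lev p U i → X.comap φ.toMonoidHom ∈ lev p U i := by
  intro i
  induction i with
  | zero =>
    rintro _ ⟨n, hn, rfl⟩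
    exact ⟨n.twist φ, (n.twist_central φ).not.mpr hn, rfl⟩
  | succ i ih =>
    rintro _ ⟨n, hn, g, X, hX, rfl⟩
    refine ⟨n.twist φ, (n.twist_central φ).not.mpr hn, g, X.comap φ.toMonoidHom, ih hX, ?_⟩
    rw [n.twist_act, map_comap_eq_self_of_surjective φ.surjective]

theorem maxCentralProduct_congr {A B : Type*} [Group A] [Group B] (e : A ≃* B) :
    maxCentralProduct A = maxCentralProduct B := by
  unfold maxCentralProduct
  congr 1
  ext k
  constructor
  · rintro ⟨R, rfl⟩
    refine ⟨R.map e.toMonoidHom, ?_⟩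
    have h := R.equivMapOfInjective e.toMonoidHom e.injective
    rw [Nat.card_congr h.toEquiv, Nat.card_congr (Subgroup.centerCongr h).toEquiv]
  · rintro ⟨R, rfl⟩
    refine ⟨R.map e.symm.toMonoidHom, ?_⟩
    have h := R.equivMapOfInjective e.symm.toMonoidHom e.symm.injective
    rw [Nat.card_congr h.toEquiv, Nat.card_congr (Subgroup.centerCongr h).toEquiv]

/-- A centrally large subgroup has the same largest central product. -/
theorem maxCentralProduct_eq_of_large {Q : Subgroup S} (hQ : IsCentrallyLarge Q) :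
    maxCentralProduct ↥Q = maxCentralProduct S := by
  refine le_antisymm ?_ ?_
  · refine csSup_le ⟨_, ⊥, rfl⟩ ?_
    rintro _ ⟨R, rfl⟩
    have h := R.equivMapOfInjective Q.subtype Q.subtype_injective
    rw [Nat.card_congr h.toEquiv, Nat.card_congr (Subgroup.centerCongr h).toEquiv]
    exact le_maxCentralProduct _
  · have h := le_maxCentralProduct (⊤ : Subgroup ↥Q)
    rw [card_top, Nat.card_congr (Subgroup.centerCongr (topEquiv (G := ↥Q))).toEquiv] at h
    exact hQ.ge.trans h

/-- If `J(S) = S` then `S` is centrally large. -/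
theorem isCentrallyLarge_top_of_thompson (hJ : thompsonSubgroupA S = ⊤) :
    IsCentrallyLarge (⊤ : Subgroup S) := by
  obtain ⟨Q, hQ⟩ := exists_isCentrallyLarge (G := S)
  have h := centrallyLarge_sup_thompsonSubgroupA hQ
  rwa [hJ, sup_top_eq] at h

namespace Node

variable (n : Node p S)

/-- `O_p` is centrally large. -/
theorem centrallyLarge_R (hJ : thompsonSubgroupA S = ⊤) : IsCentrallyLarge n.R := by
  have hJt : thompsonSubgroupAOf n.τ.range = n.τ.range := by
    rw [← n.map_top, ← PLocal.map_thompsonSubgroupAOf n.inj, PLocal.thompsonSubgroupAOf_top, hJ]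
  have h1 : n.τ.range ≤ centralizer (centerThompsonAOf n.τ.range : Set n.G) :=
    le_centralizer_iff.mp (by rw [centerThompsonAOf, hJt]; exact inf_le_right)
  have hnc : ¬ n.τ.range ⊓ centralizer (n.τ.range : Set n.G) ≤
      centralizer ((⊤ : Subgroup n.G) : Set n.G) := by
    intro hc
    have h := n.core.card_zS
    have e : zS n.τ.range = zG p n.G :=
      le_antisymm (le_inf n.core.zS_le hc) n.core.zG_le_zS
    rw [e] at h
    exact n.one_lt_q.ne' (by
      have := (Nat.mul_eq_right (Nat.card_pos (α := ↥(zG p n.G))).ne').mp h.symm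
      exact this)
  have h2 := ((center_central_or_core_centrallyLarge n.sit h1).resolve_left hnc)
  rw [isCentrallyLarge_subgroupOf_iff n.core.core_le, ← n.map_R,
    ← PLocal.map_inf_centralizer n.inj, card_map_of_injective n.inj, card_map_of_injective n.inj,
    ← maxCentralProduct_congr (MonoidHom.ofInjective n.inj), ← card_center_subgroup] at h2
  exact h2

theorem centralizer_R (hJ : thompsonSubgroupA S = ⊤) : centralizer (n.R : Set S) = n.V := by
  have h := isCentrallyLarge_iff.mp (n.centrallyLarge_R hJ)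
  apply map_injective n.inj
  rw [map_centralizer_eq n.inj, map_R, map_V]
  refine le_antisymm (le_inf ?_ inf_le_right) (inf_le_inf_right _ n.core.core_le)
  rintro _ ⟨⟨x, rfl⟩, hx⟩
  exact h.2 (mem_centralizer_iff.mpr fun y hy => n.inj (by
    rw [map_mul, map_mul]; exact mem_centralizer_iff.mp hx _ hy))

end Node

/-- If every level stays below every `O_p`, there is a normal characteristic centrally large
subgroup. -/
theorem exists_closure {U : Subgroup S} [U.Characteristic] (hJ : thompsonSubgroupA S = ⊤)
    (hsmall : ∀ k, Small p U k) :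
    ∃ T : Subgroup S, T.Characteristic ∧ center S ≤ T ∧ IsCentrallyLarge T ∧
      ∀ n : Node p S, ¬ n.Central U → (T.map n.τ).Normal := by
  set T := ⨆ x : {x : ℕ × Subgroup S // x.2 ∈ lev p U x.1}, x.1.2 with hTdef
  have hTR : ∀ n : Node p S, ¬ n.Central U → T ≤ n.R := fun n hn =>
    iSup_le fun x => hsmall (x.1.1 + 1) x.1.1 (Nat.lt_succ_self _) _ x.2 n hn
  have hVT : ∀ n : Node p S, ¬ n.Central U → n.V ≤ T := fun n hn =>
    le_iSup (fun x : {x : ℕ × Subgroup S // x.2 ∈ lev p U x.1} => x.1.2)
      ⟨(0, n.V), mem_lev_zero hn⟩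
  have hact : ∀ n : Node p S, ¬ n.Central U → ∀ g : n.G, n.act g T ≤ T := by
    intro n hn g
    rw [← n.map_le_map, n.map_act (hTR n hn), cj, hTdef, Subgroup.map_iSup, Subgroup.map_iSup]
    refine iSup_le fun x => ?_
    refine le_trans (le_of_eq ?_) (le_iSup
      (fun x : {x : ℕ × Subgroup S // x.2 ∈ lev p U x.1} => x.1.2.map n.τ)
      ⟨(x.1.1 + 1, n.act g x.1.2), act_mem_lev hn g x.2⟩)
    exact (n.map_act (hsmall (x.1.1 + 1) x.1.1 (Nat.lt_succ_self _) _ x.2 n hn)).symm
  have hchar : T.Characteristic := by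
    refine characteristic_iff_map_le.mpr fun φ => ?_
    rw [hTdef, Subgroup.map_iSup]
    refine iSup_le fun x => ?_
    have h : x.1.2.map φ.toMonoidHom = x.1.2.comap (φ.symm : MulAut S).toMonoidHom :=
      map_equiv_eq_comap_symm φ x.1.2
    rw [h]
    exact le_iSup (fun x : {x : ℕ × Subgroup S // x.2 ∈ lev p U x.1} => x.1.2)
      ⟨(x.1.1, x.1.2.comap (φ.symm : MulAut S).toMonoidHom), comap_mem_lev _ x.2⟩
  haveI := hchar
  -- `T` is in the lattice of largest `|X| |C(X)|`
  have hTl : (∀ n : Node p S, n.Central U) ∨ IsCentralizerLarge T := by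
    by_cases hall : ∀ n : Node p S, n.Central U
    · exact Or.inl hall
    right
    push Not at hall
    obtain ⟨n₀, hn₀⟩ := hall
    have hV : ∀ n : Node p S, IsCentralizerLarge n.V := fun n =>
      n.centralizer_R hJ ▸ (large_centralizer (isCentrallyLarge_iff.mp (n.centrallyLarge_R hJ)).1).1
    -- the largest member of the lattice inside `T`
    haveI : Nonempty {X : Subgroup S // X ≤ T ∧ IsCentralizerLarge X} :=
      ⟨⟨n₀.V, hVT n₀ hn₀, hV n₀⟩⟩
    obtain ⟨⟨T₁, hT₁, hT₁l⟩, hmax⟩ := Finite.exists_max
      (α := {X : Subgroup S // X ≤ T ∧ IsCentralizerLarge X}) (fun X => Nat.card X.1)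
    have htop : ∀ X : Subgroup S, X ≤ T → IsCentralizerLarge X → X ≤ T₁ := fun X hX hXl => by
      have := eq_of_le_of_card_ge (le_sup_left : T₁ ≤ T₁ ⊔ X)
        (hmax ⟨T₁ ⊔ X, sup_le hT₁ hX, (large_sup_inf hT₁l hXl).2.1⟩)
      rw [this]; exact le_sup_right
    have key : ∀ i, ∀ X ∈ lev p U i, X ≤ T₁ := by
      intro i
      induction i with
      | zero => rintro _ ⟨n, hn, rfl⟩; exact htop _ (hVT n hn) (hV n)
      | succ i ih =>
        rintro _ ⟨n, hn, g, X, hX, rfl⟩
        refine (n.act_mono (ih X hX)).trans (htop _ ((n.act_mono hT₁).trans (hact n hn g)) ?_)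
        have hVT₁ : n.V ≤ T₁ := htop _ (hVT n hn) (hV n)
        have hT₁R := hT₁.trans (hTR n hn)
        have hC : ∀ Y : Subgroup S, n.V ≤ Y →
            (centralizer (Y : Set S)).map n.τ =
              pCore p n.G ⊓ centralizer (Y.map n.τ : Set n.G) := fun Y hY => by
          rw [map_centralizer_eq n.inj, ← n.core.core_eq, inf_assoc,
            inf_eq_right.mpr (centralizer_le (by rw [← n.map_V]; exact map_mono hY))]
        unfold IsCentralizerLarge at hT₁l ⊢
        rw [← hT₁l, n.card_act hT₁R]
        congr 1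
        rw [← card_map_of_injective (f := n.τ) n.inj (K := centralizer _),
          ← card_map_of_injective (f := n.τ) n.inj (K := centralizer (T₁ : Set S)),
          hC _ ((n.act_V g).ge.trans (n.act_mono hVT₁)), hC _ hVT₁, n.map_act hT₁R]
        haveI := pCore_normal p n.G
        conv_lhs => rw [← cj_normal g (pCore p n.G), ← cj_centralizer, ← cj_inf, card_cj]
    have : T = T₁ := le_antisymm (iSup_le fun x => key _ _ x.2) hT₁
    rw [this]; exact hT₁l
  rcases hTl with hall | hTl
  · exact ⟨⊤, inferInstance, le_top, isCentrallyLarge_top_of_thompson hJ,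
      fun n hn => absurd (hall n) hn⟩
  refine ⟨T ⊔ centralizer (T : Set S), ?_, (center_le_centralizer _).trans le_sup_right, ?_,
    fun n hn => ?_⟩
  · haveI : (centralizer (T : Set S)).Characteristic := Subgroup.characteristic_centralizer
    infer_instance
  · refine isCentrallyLarge_iff.mpr ⟨(large_sup_inf hTl (large_centralizer hTl).1).2.1, ?_⟩
    rw [centralizer_sup_eq, (large_centralizer hTl).2]
    exact inf_le_right.trans le_sup_left
  · haveI hTn : (T.map n.τ).Normal := by
      refine ⟨fun y hy g => ?_⟩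
      have h : cj g (T.map n.τ) ≤ T.map n.τ := by
        rw [← n.map_act (hTR n hn)]; exact map_mono (hact n hn g)
      exact h (mem_cj.mpr (by simpa [mul_assoc] using hy))
    haveI := pCore_normal p n.G
    rw [Subgroup.map_sup, map_centralizer_eq n.inj]
    have e : n.τ.range ⊓ centralizer (T.map n.τ : Set n.G) =
        pCore p n.G ⊓ centralizer (T.map n.τ : Set n.G) := by
      rw [← n.core.core_eq, inf_assoc, inf_eq_right.mpr
        (centralizer_le (by rw [← n.map_V]; exact map_mono (hVT n hn)))]
    rw [e]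
    haveI := Subgroup.normal_inf_normal (pCore p n.G) (centralizer (T.map n.τ : Set n.G))
    exact Subgroup.sup_normal _ _

end CfsgLib.LocalEven50.Family
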