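import Cfsg.Agent.LocalEven50.Family.Torus

/-!
# A pair for a whole family of pushing-up situations

`W = Z(S) ∩ S₀`.  Either the images of the `Z(O_p)` close up below every `O_p`, or a critical word has
no target with an edge; then the part of `W` in `[Z(O_p), S]` for the nodes with an edge is central in
that target, and the family shrinks.
-/

set_option linter.style.haveILetI false
set_option linter.unusedSectionVars false

namespace CfsgLib.LocalEven50.Family

open Subgroup Cfsg CfsgLib.LocalEven50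
open scoped commutatorElement

universe u

variable {p : ℕ} [Fact p.Prime] {S : Type u} [Group S] [Finite S]

theorem not_central_of_le {n : Node p S} {U W : Subgroup S} (h : U ≤ W) (hn : ¬ n.Central U) :
    ¬ n.Central W := fun hW => hn ((map_mono h).trans hW)

theorem hasEdge_mono {U U' : Subgroup S} (h : U' ≤ U) {m : Node p S} (hm : HasEdge U' m) :
    HasEdge U m := by
  obtain ⟨j, hj, hne⟩ := hm
  exact ⟨j, not_central_of_le h hj, hne⟩

theorem hasEdge_twist {U : Subgroup S} [U.Characteristic] {m : Node p S} (φ : MulAut S)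
    (hm : HasEdge U m) : HasEdge U (m.twist φ) := by
  obtain ⟨j, hj, hne⟩ := hm
  refine ⟨j.twist φ, (j.twist_central φ).not.mpr hj, ?_⟩
  have e : ((j.twist φ).V ⊔ (m.twist φ).V).map (m.twist φ).τ = (j.V ⊔ m.V).map m.τ := by
    show Subgroup.map (m.τ.comp φ.toMonoidHom)
      (j.V.comap φ.toMonoidHom ⊔ m.V.comap φ.toMonoidHom) = _
    rw [← Subgroup.map_map, Subgroup.map_sup, map_comap_eq_self_of_surjective φ.surjective,
      map_comap_eq_self_of_surjective φ.surjective]
  rw [e]
  exact hne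

/-- Every window of length two is impossible. -/
theorem no_short_chain {U : Subgroup S} (hU : U ≤ center S ⊓ puS0 p S) (hsm : Small p U 1)
    {N : ℕ → Node p S} (hN : ∀ t, Crit p U 1 (N (t + 1 + 1)) (wd N t 1) (N t)) : False := by
  have hb : ∀ t, ¬ (N t).Central U := fun t => (hN t).last
  have h0 : ∀ i j, (N i).V ≤ (N j).R := fun i j =>
    hsm 0 Nat.one_pos _ (mem_lev_zero (hb i)) _ (hb j)
  have hw : ∀ t, ⁅(N (t + 2)).V, (N (t + 1)).act (N (t + 1)).a (N t).V⁆ ≠ ⊥ := fun t =>
    (hN t).ne_bot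
  have hmid : ∀ t, (N (t + 1)).q = (N (t + 3)).q ∧ (N (t + 2)).q ≤ (N (t + 3)).q ∧
      ((N (t + 2)).q = (N (t + 3)).q → (N (t + 2)).Central (center S ⊓ puS0 p S)) := fun t =>
    middle (N (t + 2)) (N (t + 1)) (N (t + 3)) (N t) (N (t + 4)) (h0 _ _) (h0 _ _) (h0 _ _)
      (h0 _ _) (h0 _ _) (h0 _ _) (h0 _ _) (h0 _ _) (h0 _ _) (hw (t + 1)) (hw t) (hw (t + 2))
  obtain ⟨-, h1, h2⟩ := hmid 0
  obtain ⟨h3, h4, -⟩ := hmid 1
  refine not_central_of_le hU (hb 2) (h2 (le_antisymm h1 ?_))
  calc (N 3).q ≤ (N 4).q := h4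
    _ = (N 2).q := h3.symm

/-- If a critical word has no target with an edge, the part of `W` in `[Z_m, S]` for `m` with an edge
is central in the target. -/
theorem central_of_no_edge {U W : Subgroup S} [U.Characteristic] [W.Characteristic] {k : ℕ}
    {w : List (Σ m : Node p S, m.G)} {e : Node p S}
    (hno : ∀ m : Node p S, HasEdge U m → ¬ Crit p U k m w e) {n : Node p S} (C : Crit p U k n w e)
    {m : Node p S} (hm : ¬ m.Central U) (hme : HasEdge U m) :
    n.Central (W ⊓ ⁅m.V, (⊤ : Subgroup S)⁆) := by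
  set D := centralizer (↑(⨆ x : {x : Node p S // ¬ x.Central U ∧ HasEdge U x}, x.1.V) : Set S) with hD
  haveI hDc : D.Characteristic := by
    haveI : (⨆ x : {x : Node p S // ¬ x.Central U ∧ HasEdge U x}, x.1.V).Characteristic := by
      refine characteristic_iff_map_le.mpr fun φ => ?_
      rw [Subgroup.map_iSup]
      refine iSup_le fun x => ?_
      refine le_trans (le_of_eq ?_) (le_iSup
        (fun x : {x : Node p S // ¬ x.Central U ∧ HasEdge U x} => x.1.V)
        ⟨x.1.twist (φ.symm : MulAut S), (x.1.twist_central _).not.mpr x.2.1,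
          hasEdge_twist _ x.2.2⟩)
      exact map_equiv_eq_comap_symm φ x.1.V
    exact Subgroup.characteristic_centralizer
  have hXD : pushW w e.V ≤ D := by
    rw [hD, le_centralizer_iff]
    refine iSup_le fun x => commutator_eq_bot_iff_le_centralizer.mp ?_
    by_contra hx
    exact hno x.1 x.2.2 ⟨C.length, C.bad, x.2.1, C.last, fun h => hx (x.1.le_R_iff.mp h)⟩
  have hmD : ⁅m.V, D⁆ = ⊥ := by
    refine commutator_eq_bot_iff_le_centralizer.mpr ?_
    rw [le_centralizer_iff, hD]
    exact centralizer_le (le_iSup (fun x : {x : Node p S // ¬ x.Central U ∧ HasEdge U x} => x.1.V)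
      ⟨m, hm, hme⟩)
  haveI := pCore_normal p n.G
  have hDR : D ⊔ n.R = ⊤ := by
    apply map_injective n.inj
    rw [Subgroup.map_sup, n.map_R, n.map_top]
    obtain ⟨-, ht, -⟩ := pushUp_torus n.sit
    refine (ht _ le_sup_right (sup_le (n.map_le_range _) n.core.core_le) ?_).resolve_left ?_
    · intro h hh
      refine mem_normalizer_iff_map_conj_eq.mpr ?_
      rw [Subgroup.map_sup, mem_normalizer_iff_map_conj_eq.mp (n.normalizer_le_normalizer_map hh)]
      exact congrArg (D.map n.τ ⊔ ·) (cj_normal h (pCore p n.G))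
    · intro h
      exact C.crit (hXD.trans (n.map_le_core.mp (le_sup_left.trans h.le)))
  set L := ⁅m.V, n.R⁆
  have hLc : L ≤ center S := (commutator_mono le_rfl le_top).trans m.quad
  haveI : L.Normal := ⟨fun y hy g => by
    rwa [mem_center_iff.mp (hLc hy) g, mul_inv_cancel_right]⟩
  have hmL : ⁅m.V, (⊤ : Subgroup S)⁆ ≤ L := by
    rw [← hDR, commutator_comm]
    exact commutator_sup_le ((commutator_comm _ _).trans_le (hmD.le.trans bot_le))
      (commutator_comm _ _).le
  -- `L` is normal in the target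
  haveI hA : ((m.V ⊔ n.V).map n.τ).Normal := by
    by_contra hne
    exact hno n ⟨m, hm, hne⟩ C
  haveI : (⁅(m.V ⊔ n.V).map n.τ, n.R.map n.τ⁆).Normal := by
    rw [n.map_R]; exact Subgroup.commutator_normal _ _
  have hle : ⁅(m.V ⊔ n.V).map n.τ, n.R.map n.τ⁆ ≤ zS n.τ.range := by
    rw [← map_commutator, ← n.map_center, n.map_le_map]
    haveI : (center S).Normal := inferInstance
    exact commutator_sup_le hLc (n.commutator_V_R.le.trans bot_le)
  refine le_trans ?_ ((n.le_zG_of_le_zS hle).trans inf_le_right)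
  rw [← map_commutator]
  exact map_mono (inf_le_right.trans (hmL.trans (commutator_mono le_sup_left le_rfl)))

/-- The invariant of the shrinking process. -/
def Admissible (p : ℕ) [Fact p.Prime] (U : Subgroup S) : Prop :=
  U ≤ center S ⊓ puS0 p S ∧ U ≠ ⊥ ∧ U.Characteristic ∧
    ∀ n : Node p S, ¬ n.Central U → HasEdge U n →
      center S ⊓ puS0 p S ⊓ ⁅n.V, (⊤ : Subgroup S)⁆ ≤ U

/-- One pair for all nodes. -/
theorem exists_pair (hJ : thompsonSubgroupA S = ⊤) (hel : ∀ c ∈ center S, c ^ p = 1)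
    (hne : center S ⊓ puS0 p S ≠ ⊥) :
    ∃ U T : Subgroup S, U ≠ ⊥ ∧ U.Characteristic ∧ U ≤ center S ∧ T.Characteristic ∧
      center S ≤ T ∧ IsCentrallyLarge T ∧ ∀ n : Node p S, n.Central U ∨ (T.map n.τ).Normal := by
  classical
  suffices key : ∀ c : ℕ, ∀ U : Subgroup S, Admissible p U → (lev p U 0).ncard ≤ c →
      ∃ U T : Subgroup S, U ≠ ⊥ ∧ U.Characteristic ∧ U ≤ center S ∧ T.Characteristic ∧
        center S ≤ T ∧ IsCentrallyLarge T ∧ ∀ n : Node p S, n.Central U ∨ (T.map n.τ).Normal from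
    key _ _ ⟨le_rfl, hne, inferInstance, fun _ _ _ => inf_le_left⟩ le_rfl
  intro c
  induction c using Nat.strong_induction_on with
  | _ c ih =>
    intro U hU hc
    obtain ⟨hUW, hUne, hUc, hUe⟩ := hU
    haveI := hUc
    by_cases hall : ∀ k, Small p U k
    · obtain ⟨T, h1, h2, h3, h4⟩ := exists_closure hJ hall
      exact ⟨U, T, hUne, hUc, hUW.trans inf_le_left, h1, h2, h3,
        fun n => or_iff_not_imp_left.mpr (h4 n)⟩
    push Not at hall
    obtain ⟨k, hsm, hk⟩ : ∃ k, Small p U k ∧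
        ∃ X ∈ lev p U k, ∃ n : Node p S, ¬ n.Central U ∧ ¬ X ≤ n.R := by
      obtain ⟨k₁, hk₁⟩ := hall
      have hex : ∃ i, ∃ X ∈ lev p U i, ∃ n : Node p S, ¬ n.Central U ∧ ¬ X ≤ n.R := by
        unfold Small at hk₁
        push Not at hk₁
        obtain ⟨i, -, X, hX, n, hn, hXn⟩ := hk₁
        exact ⟨i, X, hX, n, hn, hXn⟩
      refine ⟨Nat.find hex, fun i hi X hX n hn => ?_, Nat.find_spec hex⟩
      by_contra hXn
      exact Nat.find_min hex hi ⟨X, hX, n, hn, hXn⟩
    obtain ⟨X, hX, n, hn, hXn⟩ := hk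
    rcases Nat.eq_zero_or_pos k with rfl | hkpos
    · obtain ⟨m, hm, rfl⟩ := hX
      exact absurd (n.V_le_R_of_bad (not_central_of_le hUW hn) (not_central_of_le hUW hm) hel) hXn
    obtain ⟨w, e, hwl, hwb, he, rfl⟩ := exists_crit hn hX
    have C : Crit p U k n w e := ⟨hwl, hwb, hn, he, hXn⟩
    by_cases hP : Prolongs p U k
    · obtain ⟨N, hN⟩ := exists_chain hkpos hsm hP C
      rcases (show k = 1 ∨ 2 ≤ k by omega) with rfl | h2
      · exact (no_short_chain hUW hsm hN).elim
      · obtain ⟨j, rfl⟩ : ∃ j, k = j + 2 := ⟨k - 2, by omega⟩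
        exact (no_long_chain hsm hN).elim
    unfold Prolongs at hP
    push Not at hP
    obtain ⟨n, w, e, C, hno⟩ := hP
    set U' := ⨆ x : {x : Node p S // ¬ x.Central U ∧ HasEdge U x},
      center S ⊓ puS0 p S ⊓ ⁅x.1.V, (⊤ : Subgroup S)⁆ with hU'
    have hle : ∀ m : Node p S, ¬ m.Central U → HasEdge U m →
        center S ⊓ puS0 p S ⊓ ⁅m.V, (⊤ : Subgroup S)⁆ ≤ U' := fun m hm hme =>
      le_iSup (fun x : {x : Node p S // ¬ x.Central U ∧ HasEdge U x} =>
        center S ⊓ puS0 p S ⊓ ⁅x.1.V, (⊤ : Subgroup S)⁆) ⟨m, hm, hme⟩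
    have hU'U : U' ≤ U := iSup_le fun x => hUe x.1 x.2.1 x.2.2
    have hU'c : U'.Characteristic := by
      refine characteristic_iff_map_le.mpr fun φ => ?_
      rw [hU', Subgroup.map_iSup]
      refine iSup_le fun x => le_trans ?_ (hle (x.1.twist (φ.symm : MulAut S))
        ((x.1.twist_central _).not.mpr x.2.1) (hasEdge_twist _ x.2.2))
      rw [Subgroup.map_inf _ _ _ φ.injective, map_commutator, characteristic_iff_map_eq.mp
        (inferInstance : (center S ⊓ puS0 p S).Characteristic) φ,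
        map_top_of_surjective _ φ.surjective]
      exact le_of_eq (congrArg (fun Y => center S ⊓ puS0 p S ⊓ ⁅Y, (⊤ : Subgroup S)⁆)
        (map_equiv_eq_comap_symm φ x.1.V))
    have hU'ne : U' ≠ ⊥ := by
      obtain ⟨h, w', rfl⟩ : ∃ h w', w = h :: w' := by
        cases w with
        | nil =>
          have := C.length
          simp at this
          omega
        | cons h w' => exact ⟨h, w', rfl⟩
      have hh : ¬ h.1.Central U := C.bad h List.mem_cons_self
      intro hb
      exact h.1.inf_commutator_ne_bot (not_central_of_le hUW hh)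
        (le_bot_iff.mp ((hle h.1 hh ⟨n, C.target, C.head hsm⟩).trans hb.le))
    have hcen : ∀ n' : Node p S, Crit p U k n' w e → n'.Central U' := fun n' C' => by
      show U'.map n'.τ ≤ _
      rw [hU', Subgroup.map_iSup]
      exact iSup_le fun x => central_of_no_edge (W := center S ⊓ puS0 p S) hno C' x.2.1 x.2.2
    have hsub : lev p U' 0 ⊆ lev p U 0 := by
      rintro _ ⟨m, hm, rfl⟩
      exact mem_lev_zero (not_central_of_le hU'U hm)
    have hlt : (lev p U' 0).ncard < (lev p U 0).ncard := by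
      refine Set.ncard_lt_ncard ⟨hsub, fun hsup => ?_⟩ (Set.toFinite _)
      obtain ⟨m, hm, e'⟩ := hsup (mem_lev_zero C.target)
      refine hm (hcen m ⟨C.length, C.bad, not_central_of_le hU'U hm, C.last, ?_⟩)
      rw [← m.centralizer_V, ← e', n.centralizer_V]
      exact C.crit
    refine ih _ (lt_of_lt_of_le hlt hc) U' ⟨hU'U.trans hUW, hU'ne, hU'c, fun m hm hme => ?_⟩ le_rfl
    exact hle m (not_central_of_le hU'U hm) (hasEdge_mono hU'U hme)

end CfsgLib.LocalEven50.Family
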