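import Cfsg.Agent.LocalEven50.Family.Split
import Cfsg.Agent.LocalEven50.PushingUpCaseII

/-!
# The middle of five nodes with critical windows

`U = Z_u`, `V₁` the conjugate of `Z_l`, `U₂` and `V₂` the images of the outer nodes.  The middle node
has at most the `q` of its neighbours, and with equality `Z(S) ∩ S₀` is central in it.
-/

set_option linter.style.haveILetI false
set_option linter.unusedSectionVars false

namespace CfsgLib.LocalEven50.Family

open Subgroup Cfsg CfsgLib.LocalEven50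
open scoped MatrixGroups commutatorElement

universe u

variable {p : ℕ} [Fact p.Prime] {S : Type u} [Group S] [Finite S]

theorem Node.pow_eq_one_of_mem_act {n m : Node p S} {g : m.G} {X : Subgroup S}
    (hX : ∀ x ∈ X, x ^ p = 1) {y : S} (hy : y ∈ m.act g X) : y ^ p = 1 := by
  obtain ⟨_, ⟨x, hx, rfl⟩, e⟩ := hy
  refine m.inj ?_
  rw [map_pow, ← e, map_one]
  show (g * m.τ x * g⁻¹) ^ p = 1
  rw [conj_pow, ← map_pow, hX x hx, map_one, mul_one, mul_inv_cancel]

set_option maxHeartbeats 4000000 in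
theorem middle (n l u l₂ u₂ : Node p S)
    (hVl : l.V ≤ n.R) (hVu : u.V ≤ n.R) (hlu : l.V ≤ u.R) (hnl : n.V ≤ l.R) (hnu : n.V ≤ u.R)
    (hl₂ : l₂.V ≤ l.R) (hu₂ : u₂.V ≤ u.R) (hl₂n : l₂.V ≤ n.R) (hnu₂ : n.V ≤ u₂.R)
    (c : ⁅u.V, n.act n.a l.V⁆ ≠ ⊥) (cl : ⁅n.V, l.act l.a l₂.V⁆ ≠ ⊥)
    (cu : ⁅u₂.V, u.act u.a n.V⁆ ≠ ⊥) :
    l.q = u.q ∧ n.q ≤ u.q ∧ (n.q = u.q → n.Central (center S ⊓ puS0 p S)) := by
  classical
  obtain ⟨hlq, sU, sV, sUQ, sVQ⟩ := n.split hVl hVu hlu c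
  obtain ⟨hl₂q, -, sV₂, sQl, -⟩ := l.split hl₂ hnl hl₂n cl
  obtain ⟨hu₂q, sU₂, -, -, sQu⟩ := u.split hnu hu₂ hnu₂ cu
  refine ⟨hlq, ?_⟩
  haveI := pCore_normal p n.G
  have B := n.core
  set S₀ := n.τ.range with hS₀
  set a := n.a
  set q := n.q with hqdef
  set q' := u.q with hq'
  set R := pCore p n.G with hR
  set V := zR p n.G with hV
  set V0 := zG p n.G with hV0
  set C := zS S₀ with hC
  set V1 := cj a (l.V.map n.τ) with hV1
  set U := u.V.map n.τ with hUdef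
  set A2 := u.act u.a⁻¹ u₂.V with hA2
  set B2 := l.act l.a l₂.V with hB2
  set U2 := A2.map n.τ with hU2
  set V2 := cj a (B2.map n.τ) with hV2
  have hcjR : ∀ (g : n.G) {X : Subgroup n.G}, X ≤ R → cj g X ≤ R :=
    fun g X hX => (cj_mono hX).trans (cj_normal g R).le
  have hRS : R ≤ S₀ := B.core_le
  have hRSa : R ≤ cj a S₀ := (cj_normal a R).ge.trans (cj_mono hRS)
  have hRV : ∀ {X : Subgroup n.G}, X ≤ R → ⁅V, X⁆ = ⊥ := fun hX => PUCore.comm_of_le_core hX
  have hVS : V ≤ S₀ := B.zR_le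
  have hVR : V ≤ R := inf_le_left
  have hUR : U ≤ R := n.map_le_core.mpr hVu
  have hV1R : V1 ≤ R := hcjR a (n.map_le_core.mpr hVl)
  have hUS : U ≤ S₀ := n.map_le_range _
  have hU2S : U2 ≤ S₀ := n.map_le_range _
  have hV2S : V2 ≤ cj a S₀ := cj_mono (n.map_le_range _)
  have hCR : C ≤ R := B.zS_le.trans hVR
  set C1 := cj a C with hC1
  have hC1V : C1 ≤ V := B.cj_zS_le
  have hCU : C ≤ U := by rw [hC, ← n.map_center]; exact map_mono u.center_le_V
  have hC1V1 : C1 ≤ V1 := cj_mono (by rw [hC, ← n.map_center]; exact map_mono l.center_le_V)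
  have hUq : ⁅U, S₀⁆ ≤ C := by
    rw [hUdef, hS₀, ← n.map_top, ← map_commutator, hC, ← n.map_center]; exact map_mono u.quad
  have hV1q : ⁅V1, cj a S₀⁆ ≤ C1 := by
    rw [hV1, ← cj_commutator, hS₀, ← n.map_top, ← map_commutator, hC1, hC, ← n.map_center]
    exact cj_mono (map_mono l.quad)
  have hE : ⁅U, V1⁆ ≤ V0 := by
    rw [hV0, ← B.inf_eq]
    refine le_inf ((commutator_mono le_rfl (hV1R.trans hRS)).trans hUq) ?_
    rw [commutator_comm]
    exact (commutator_mono le_rfl (hUR.trans hRSa)).trans hV1q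
  have eV1 : (n.act a l.V).map n.τ = V1 := n.map_act hVl
  have eC1 : (n.act a (center S)).map n.τ = C1 := by
    rw [n.map_act n.center_le_R, n.map_center]
  -- `Q`, `Q'`, `T`
  set Q := R ⊓ centralizer (V1 : Set n.G) with hQ
  set Q' := R ⊓ centralizer (U : Set n.G) with hQ'
  set T := Q ⊓ Q' with hT
  have hmapC : ∀ X : Subgroup S, (n.R ⊓ centralizer (X : Set S)).map n.τ =
      R ⊓ centralizer (X.map n.τ : Set n.G) := fun X => by
    rw [Subgroup.map_inf _ _ _ n.inj, map_centralizer_eq n.inj, n.map_R, ← inf_assoc,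
      inf_eq_left.mpr hRS]
  have eQ : (n.R ⊓ centralizer (n.act a l.V : Set S)).map n.τ = Q := by rw [hmapC, eV1]
  have eQ' : (n.R ⊓ centralizer (u.V : Set S)).map n.τ = Q' := hmapC _
  have hQR : Q ≤ R := inf_le_left
  have hQ'R : Q' ≤ R := inf_le_left
  have hV1V1 : V1 ≤ centralizer (V1 : Set n.G) :=
    commutator_eq_bot_iff_le_centralizer.mp (cj_comm_bot (n.commutator_eq_bot.mp l.V_comm))
  have hUU : U ≤ centralizer (U : Set n.G) :=
    commutator_eq_bot_iff_le_centralizer.mp (n.commutator_eq_bot.mp u.V_comm)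
  have hV1Q : V1 ≤ Q := le_inf hV1R hV1V1
  have hUQ' : U ≤ Q' := le_inf hUR hUU
  have hVQ : V ≤ Q := le_inf hVR (commutator_eq_bot_iff_le_centralizer.mp (hRV hV1R))
  have hVQ' : V ≤ Q' := le_inf hVR (commutator_eq_bot_iff_le_centralizer.mp (hRV hUR))
  have hVT : V ≤ T := le_inf hVQ hVQ'
  have hUQ : U ⊓ Q ≤ C := by
    rw [hUdef, ← eQ, ← Subgroup.map_inf _ _ _ n.inj, hC, ← n.map_center]
    exact map_mono ((inf_le_inf_left _ inf_le_right).trans sU)
  have hV1Q' : V1 ⊓ Q' ≤ C1 := by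
    rw [← eV1, ← eQ', ← Subgroup.map_inf _ _ _ n.inj, ← eC1]
    exact map_mono ((inf_le_inf_left _ inf_le_right).trans sV)
  have hUQR : U ⊔ Q = R := by
    rw [hUdef, ← eQ, ← Subgroup.map_sup, sUQ, n.map_R]
  have hV1Q'R : V1 ⊔ Q' = R := by
    rw [← eV1, ← eQ', ← Subgroup.map_sup, sVQ, n.map_R]
  have hqR : Nat.card R * q = Nat.card S₀ := by
    have := LocalEvenBasic.card_mul_relIndex_of_le R S₀ hRS
    rwa [B.data.index_core] at this
  have hcardV : Nat.card V = q * Nat.card C := B.card_zR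
  have hcardC : Nat.card C = Nat.card (center S) := by
    rw [hC, ← n.map_center, card_map_of_injective n.inj]
  have hcardU : Nat.card U = q' * Nat.card C := by
    rw [hUdef, card_map_of_injective n.inj, u.card_V, hcardC]
  have hcardV1 : Nat.card V1 = q' * Nat.card C := by
    rw [hV1, card_cj, card_map_of_injective n.inj, l.card_V, hlq, hcardC]
  have hCQ : C ≤ Q := B.zS_le.trans hVQ
  have hC1Q' : C1 ≤ Q' := hC1V.trans hVQ'
  have hRnQ : R ≤ normalizer (Q : Set n.G) := by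
    refine le_normalizer_iff_commutator_le_left.mpr (le_inf ((commutator_mono hQR le_rfl).trans
      (commutator_le_left R R)) ?_)
    refine commutator_eq_bot_iff_le_centralizer.mp (commutator_commutator_eq_bot_of_rotate ?_ ?_)
    · refine le_bot_iff.mp ((commutator_mono ?_ le_rfl).trans (commutator_eq_bot_iff_le_centralizer.mpr
        (?_ : V1 ≤ centralizer (Q : Set n.G))).le)
      · rw [commutator_comm]
        exact ((commutator_mono le_rfl hRSa).trans hV1q).trans hC1V1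
      · exact le_centralizer_iff.mp inf_le_right
    · rw [commutator_comm V1 Q, show ⁅Q, V1⁆ = ⊥ from
        commutator_eq_bot_iff_le_centralizer.mpr inf_le_right, commutator_bot_left]
  have hRnQ' : R ≤ normalizer (Q' : Set n.G) := by
    refine le_normalizer_iff_commutator_le_left.mpr (le_inf ((commutator_mono hQ'R le_rfl).trans
      (commutator_le_left R R)) ?_)
    refine commutator_eq_bot_iff_le_centralizer.mp (commutator_commutator_eq_bot_of_rotate ?_ ?_)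
    · refine le_bot_iff.mp ((commutator_mono ?_ le_rfl).trans (commutator_eq_bot_iff_le_centralizer.mpr
        (?_ : U ≤ centralizer (Q' : Set n.G))).le)
      · rw [commutator_comm]
        exact ((commutator_mono le_rfl hRS).trans hUq).trans hCU
      · exact le_centralizer_iff.mp inf_le_right
    · rw [commutator_comm U Q', show ⁅Q', U⁆ = ⊥ from
        commutator_eq_bot_iff_le_centralizer.mpr inf_le_right, commutator_bot_left]
  have hcardQ : Nat.card R = q' * Nat.card Q := by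
    have h1 := card_sup_mul_card_inf_of_coe U Q
      (coe_mul_of_left_le_normalizer_right U Q (hUR.trans hRnQ))
    rw [hUQR, le_antisymm hUQ (le_inf hCU hCQ), hcardU] at h1
    exact Nat.eq_of_mul_eq_mul_right (Nat.card_pos (α := ↥C)) (h1.trans (by ring))
  have hcardQ' : Nat.card R = q' * Nat.card Q' := by
    have h1 := card_sup_mul_card_inf_of_coe V1 Q'
      (coe_mul_of_left_le_normalizer_right V1 Q' (hV1R.trans hRnQ'))
    rw [hV1Q'R, le_antisymm hV1Q' (le_inf hC1V1 hC1Q'), hcardV1, card_cj] at h1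
    exact Nat.eq_of_mul_eq_mul_right (Nat.card_pos (α := ↥C)) (h1.trans (by ring))
  have hcardQQ' : Nat.card Q = Nat.card Q' :=
    Nat.eq_of_mul_eq_mul_left (by have := u.one_lt_q; omega) (hcardQ.symm.trans hcardQ')
  have hQT : V1 ⊔ T = Q := by
    refine le_antisymm (sup_le hV1Q inf_le_left) fun x hx => ?_
    have hx' : x ∈ ((V1 ⊔ Q' : Subgroup n.G) : Set n.G) := hV1Q'R.ge (hQR hx)
    rw [coe_mul_of_left_le_normalizer_right V1 Q' (hV1R.trans hRnQ')] at hx'
    obtain ⟨v, hv, w, hw, rfl⟩ := hx'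
    exact mul_mem (mem_sup_left hv)
      (mem_sup_right ⟨by simpa using Q.mul_mem (Q.inv_mem (hV1Q hv)) hx, hw⟩)
  have hQ'T : U ⊔ T = Q' := by
    refine le_antisymm (sup_le hUQ' inf_le_right) fun x hx => ?_
    have hx' : x ∈ ((U ⊔ Q : Subgroup n.G) : Set n.G) := hUQR.ge (hQ'R hx)
    rw [coe_mul_of_left_le_normalizer_right U Q (hUR.trans hRnQ)] at hx'
    obtain ⟨v, hv, w, hw, rfl⟩ := hx'
    exact mul_mem (mem_sup_left hv)
      (mem_sup_right ⟨hw, by simpa using Q'.mul_mem (Q'.inv_mem (hUQ' hv)) hx⟩)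
  have hTR : T ≤ R := inf_le_left.trans hQR
  have hgen : U ⊔ V1 ⊔ T = R :=
    le_antisymm (sup_le (sup_le hUR hV1R) hTR)
      (by rw [sup_assoc, hQT, hUQR])
  have hcardT : Nat.card Q = q' * Nat.card T := by
    have hVT' : V1 ⊓ T = C1 := by
      refine le_antisymm ((inf_le_inf_left _ inf_le_right).trans hV1Q') (le_inf hC1V1 ?_)
      exact (hC1V.trans hVT)
    have h1 := card_sup_mul_card_inf_of_coe V1 T (coe_mul_of_left_le_normalizer_right V1 T
      ((hV1R.trans (le_inf hRnQ hRnQ')).trans (normalizer_inf_normalizer_le Q Q')))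
    rw [hQT, hVT', hcardV1, card_cj] at h1
    exact Nat.eq_of_mul_eq_mul_right (Nat.card_pos (α := ↥C)) (h1.trans (by ring))
  -- the outer subgroups
  have hl₂q' : l₂.q = q := hl₂q
  have hcrit' : ⁅V, V2⁆ ≠ ⊥ := fun h => cl (by
    have h1 := cj_comm_bot (a := a⁻¹) h
    rw [cj_normal a⁻¹ V, hV2, cj_inv_cj, hV, ← n.map_V] at h1
    exact n.commutator_eq_bot.mpr h1)
  have hVU2 : ⁅V, U2⁆ ≠ ⊥ := fun h => cu (by
    rw [hV, ← n.map_V] at h
    have h1 := u.act_comm (g := u.a) (n.commutator_eq_bot.mpr h)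
    rwa [hA2, u.act_act_inv hu₂, commutator_comm] at h1)
  have hUU2 : ⁅U, U2⁆ = ⊥ := n.commutator_eq_bot.mp (u.le_R_iff.mp (u.act_le hu₂))
  have hS : U2 ⊔ R = S₀ := by
    refine eq_of_le_of_card_ge (sup_le hU2S hRS) ?_
    have h1 := card_sup_mul_card_inf_of_coe U2 R (mul_normal U2 R)
    have h2 : Nat.card ↥(U2 ⊓ R) ≤ Nat.card C := by
      rw [hU2, hR, ← n.map_R, ← Subgroup.map_inf _ _ _ n.inj, card_map_of_injective n.inj, hcardC,
        ← u.card_act (g := u.a) (inf_le_left.trans (u.act_le hu₂) : A2 ⊓ n.R ≤ u.R)]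
      refine card_le_of_le (le_trans ?_ sU₂)
      refine le_inf ((u.act_mono inf_le_left).trans (u.act_act_inv hu₂).le)
        (commutator_eq_bot_iff_le_centralizer.mp (u.act_comm ?_))
      rw [commutator_comm]
      exact n.le_R_iff.mp inf_le_right
    refine Nat.le_of_mul_le_mul_right ?_ (Nat.card_pos (α := ↥(U2 ⊓ R)))
    calc Nat.card S₀ * Nat.card ↥(U2 ⊓ R) ≤ Nat.card R * q * Nat.card C := by
          rw [← hqR]; exact Nat.mul_le_mul_left _ h2
      _ = Nat.card U2 * Nat.card R := by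
          rw [hU2, card_map_of_injective n.inj, hA2, u.card_act hu₂, u₂.card_V, ← hu₂q, hcardC]
          ring
      _ = _ := h1.symm
  have hSa : V2 ⊔ R = cj a S₀ := by
    refine eq_of_le_of_card_ge (sup_le hV2S hRSa) ?_
    have h1 := card_sup_mul_card_inf_of_coe V2 R (mul_normal V2 R)
    have h2 : Nat.card ↥(V2 ⊓ R) ≤ Nat.card C := by
      rw [hV2, ← cj_normal a R, ← cj_inf, card_cj, hR, ← n.map_R, ← Subgroup.map_inf _ _ _ n.inj,
        card_map_of_injective n.inj, hcardC, ← l.card_act (g := l.a) l.center_le_R]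
      refine card_le_of_le (le_trans (le_inf inf_le_left ?_) sV₂)
      refine inf_le_right.trans (commutator_eq_bot_iff_le_centralizer.mp ?_)
      rw [commutator_comm]
      exact n.commutator_V_R
    refine Nat.le_of_mul_le_mul_right ?_ (Nat.card_pos (α := ↥(V2 ⊓ R)))
    calc Nat.card ↥(cj a S₀) * Nat.card ↥(V2 ⊓ R) ≤ Nat.card R * q * Nat.card C := by
          rw [card_cj, ← hqR]; exact Nat.mul_le_mul_left _ h2
      _ = Nat.card V2 * Nat.card R := by
          rw [hV2, card_cj, card_map_of_injective n.inj, hB2, l.card_act hl₂, l₂.card_V, hl₂q',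
            hcardC]
          ring
      _ = _ := h1.symm
  -- quadratic pieces
  have hQ2 : ⁅Q, V2⁆ ≤ V ∧ ∀ w ∈ Q, ∃ v ∈ V, ∀ x ∈ V2, ⁅w, x⁆ = ⁅v, x⁆ := by
    set Qa := cj a ((l.R ⊓ centralizer (B2 : Set S)).map n.τ)
    have hQaV2 : ⁅Qa, V2⁆ = ⊥ := cj_comm_bot (n.commutator_eq_bot.mp
      (commutator_eq_bot_iff_le_centralizer.mpr inf_le_right))
    have hsub : Q ≤ V ⊔ Qa := by
      have h1 : Q ≤ cj a (l.R.map n.τ) := by
        rw [← l.centralizer_V, map_centralizer_eq n.inj, cj_inf, cj_centralizer]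
        exact inf_le_inf_right _ hRSa
      refine h1.trans (le_of_eq ?_)
      rw [← sQl, Subgroup.map_sup, n.map_V, cj_sup, cj_normal a V]
    have key : ∀ w ∈ Q, ∃ v ∈ V, ∀ x ∈ V2, ⁅w, x⁆ = ⁅v, x⁆ := by
      intro w hw
      have hw' : w ∈ ((V ⊔ Qa : Subgroup n.G) : Set n.G) := hsub hw
      rw [normal_mul V Qa] at hw'
      obtain ⟨v, hv, k, hk, rfl⟩ := hw'
      refine ⟨v, hv, fun x hx => ?_⟩
      have hkx := mem_bot.mp (hQaV2.le (commutator_mem_commutator hk hx))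
      rw [show ⁅v * k, x⁆ = v * ⁅k, x⁆ * v⁻¹ * ⁅v, x⁆ by simp only [commutatorElement_def]; group,
        hkx, mul_one, mul_inv_cancel, one_mul]
    refine ⟨commutator_le.mpr fun w hw x hx => ?_, key⟩
    obtain ⟨v, hv, e⟩ := key w hw
    rw [e x hx]
    exact commutator_le_left V ⊤ (commutator_mem_commutator hv (mem_top x))
  have hQ'2 : ⁅Q', U2⁆ ≤ V := by
    set Qb := (u.act u.a⁻¹ (u.R ⊓ centralizer (u₂.V : Set S))).map n.τ
    have hQbU2 : ⁅Qb, U2⁆ = ⊥ := n.commutator_eq_bot.mp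
      (u.act_comm (commutator_eq_bot_iff_le_centralizer.mpr inf_le_right))
    have h2 : Q' ≤ V ⊔ Qb := by
      rw [← eQ', hV, ← n.map_V, ← Subgroup.map_sup, u.centralizer_V]
      refine map_mono (inf_le_right.trans ?_)
      have h3 : u.R ≤ u.act u.a⁻¹ u.R :=
        (u.act_inv_act (g := u.a) le_rfl).ge.trans (u.act_mono (u.act_le le_rfl))
      refine h3.trans ((congrArg (u.act u.a⁻¹) sQu).symm.le.trans ?_)
      rw [u.act_sup (u.act_le hnu) inf_le_left, u.act_inv_act hnu]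
    refine (commutator_mono h2 le_rfl).trans (commutator_sup_le ?_ (hQbU2.le.trans bot_le))
    exact (commutator_mono le_rfl le_top).trans (commutator_le_left V ⊤)
  have hUp : ∀ z ∈ U, z ^ p = 1 := by
    rintro _ ⟨v, hv, rfl⟩; rw [← map_pow, u.V_pow hv, map_one]
  have hV1p : ∀ z ∈ V1, z ^ p = 1 := by
    rintro _ ⟨_, ⟨v, hv, rfl⟩, rfl⟩; rw [← map_pow, ← map_pow, l.V_pow hv, map_one, map_one]
  -- `T` is normal
  obtain ⟨x₀, hx₀, hx₀R⟩ := SetLike.not_le_iff_exists.mp fun h => hcrit' (hRV h)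
  obtain ⟨y₀, hy₀, hy₀R⟩ := SetLike.not_le_iff_exists.mp fun h => hVU2 (hRV h)
  have hnormT : ∀ X : Subgroup n.G, ⁅T, X⁆ ≤ V → X ≤ normalizer (T : Set n.G) := fun X h =>
    le_normalizer_iff_commutator_le_left.mpr (h.trans hVT)
  haveI hTn : T.Normal := by
    rw [← normalizer_eq_top_iff, eq_top_iff, ← B.gen (hV2S hx₀) hx₀R]
    refine sup_le (zpowers_le.mpr (hnormT V2 ((commutator_mono inf_le_left le_rfl).trans hQ2.1)
      hx₀)) ?_
    rw [← hS]
    exact sup_le (hnormT U2 ((commutator_mono inf_le_right le_rfl).trans hQ'2))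
      ((le_inf hRnQ hRnQ').trans (normalizer_inf_normalizer_le Q Q'))
  set N := (centralizer (T.map (QuotientGroup.mk' V) : Set (n.G ⧸ V))).comap (QuotientGroup.mk' V)
    with hNdef
  haveI : (T.map (QuotientGroup.mk' V)).Normal :=
    Normal.map inferInstance _ (QuotientGroup.mk'_surjective V)
  haveI hNn : N.Normal := by rw [hNdef]; exact Normal.comap inferInstance _
  have hTN : ⁅T, N⁆ ≤ V := by
    rw [commutator_le_iff_mk, le_centralizer_iff]
    exact map_comap_le _ _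
  have hU2N : U2 ≤ N := by
    rw [hNdef, ← map_le_iff_le_comap, le_centralizer_iff, ← commutator_le_iff_mk]
    exact (commutator_mono inf_le_right le_rfl).trans hQ'2
  have hNS : N ⊔ S₀ = ⊤ := B.sup_eq_top (hU2N hy₀) (hU2S hy₀) hy₀R
  -- `P`
  set P := T ⊓ centralizer (N : Set n.G) with hP
  haveI : P.Normal := Subgroup.normal_inf_normal T _
  have hV0V : V0 ≤ V := inf_le_left
  have hV0P : V0 ≤ P := le_inf (hV0V.trans hVT) (inf_le_right.trans (centralizer_le le_top))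
  have hPR : P ≤ R := inf_le_left.trans hTR
  have hPV : P ⊓ V ≤ V0 := by
    intro v hv
    rw [hV0, ← B.inf_eq]
    refine ⟨?_, ?_⟩
    · rw [← B.fix y₀ (hU2S hy₀) hy₀R]
      exact ⟨hv.2, mem_centralizer_singleton_iff.mpr
        (mem_centralizer_iff.mp hv.1.2 y₀ (hU2N hy₀)).symm⟩
    · have hy : a * y₀ * a⁻¹ ∈ cj a S₀ := mem_cj.mpr (by simpa [mul_assoc] using hU2S hy₀)
      rw [← B.fix_cj hy (fun h => hy₀R (by
        simpa [mul_assoc] using Normal.conj_mem ‹(pCore p n.G).Normal› _ h a⁻¹))]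
      exact ⟨hv.2, mem_centralizer_singleton_iff.mpr
        (mem_centralizer_iff.mp hv.1.2 _ (hNn.conj_mem _ (hU2N hy₀) a)).symm⟩
  have hVV : ⁅V, V⁆ = ⊥ := commutator_eq_bot_iff_le_centralizer.mpr B.zR_comm
  have hTT : ⁅T, T⁆ ≤ P := by
    refine le_inf (commutator_le_left T T) (commutator_eq_bot_iff_le_centralizer.mp
      (commutator_commutator_eq_bot_of_rotate ?_ ?_))
    · exact le_bot_iff.mp ((commutator_mono hTN le_rfl).trans (hRV hTR).le)
    · rw [commutator_comm N T]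
      exact le_bot_iff.mp ((commutator_mono hTN le_rfl).trans (hRV hTR).le)
  have hR'P : ⁅R, R⁆ ≤ P := by
    have hUT : ⁅U, T⁆ = ⊥ := by
      rw [commutator_comm]; exact commutator_eq_bot_iff_le_centralizer.mpr (inf_le_right.trans inf_le_right)
    have hV1T : ⁅V1, T⁆ = ⊥ := by
      rw [commutator_comm]; exact commutator_eq_bot_iff_le_centralizer.mpr (inf_le_left.trans inf_le_right)
    have h1 : ⁅U, U⁆ ≤ P :=
      (commutator_eq_bot_iff_le_centralizer.mpr hUU).le.trans bot_le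
    have h2 : ⁅V1, V1⁆ ≤ P :=
      (commutator_eq_bot_iff_le_centralizer.mpr hV1V1).le.trans bot_le
    have h3 : ⁅U, V1⁆ ≤ P := hE.trans hV0P
    have h4 : ⁅U, T⁆ ≤ P := hUT.le.trans bot_le
    have h5 : ⁅V1, T⁆ ≤ P := hV1T.le.trans bot_le
    rw [← hgen]
    refine commutator_sup_le (commutator_sup_le ?_ ?_) ?_ <;> rw [commutator_comm]
    · exact commutator_sup_le (commutator_sup_le h1 ((commutator_comm _ _).trans_le h3))
        ((commutator_comm _ _).trans_le h4)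
    · exact commutator_sup_le (commutator_sup_le h3 h2) ((commutator_comm _ _).trans_le h5)
    · exact commutator_sup_le (commutator_sup_le h4 h5) hTT
  have hRT : ⁅R, R⁆ ≤ T := hR'P.trans inf_le_left
  have hRp : ∀ r ∈ R, r ^ p ∈ P := by
    set π := QuotientGroup.mk' P
    have hab : R.map π ≤ centralizer (R.map π : Set (n.G ⧸ P)) := commutator_le_iff_mk.mp hR'P
    have hTp : ∀ t ∈ T, t ^ p ∈ P := by
      intro t ht
      refine ⟨T.pow_mem ht p, mem_centralizer_iff.mpr fun g hg => ?_⟩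
      have hv : g * t * g⁻¹ * t⁻¹ ∈ V := by
        have := inv_mem (hTN (commutator_mem_commutator ht hg))
        rwa [commutatorElement_inv, commutatorElement_def] at this
      have hc : Commute (g * t * g⁻¹ * t⁻¹) t :=
        (mem_centralizer_iff.mp hv.2 t (hTR ht)).symm
      have e : g * t ^ p * g⁻¹ = t ^ p := by
        rw [← conj_pow, show g * t * g⁻¹ = (g * t * g⁻¹ * t⁻¹) * t by group, hc.mul_pow,
          B.elem.2 _ hv, one_mul]
      exact mul_inv_eq_iff_eq_mul.mp e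
    intro r hr
    rw [← hgen] at hr
    have key : ∀ z ∈ (U ⊔ V1) ⊔ T, z ∈ R ∧ z ^ p ∈ P := by
      intro z hz
      rw [sup_eq_closure, sup_eq_closure] at hz
      induction hz using closure_induction with
      | mem z hz =>
        rcases hz with hz | hz
        · induction hz using closure_induction with
          | mem z hz =>
            rcases hz with hz | hz
            · exact ⟨hUR hz, by rw [hUp z hz]; exact P.one_mem⟩
            · exact ⟨hV1R hz, by rw [hV1p z hz]; exact P.one_mem⟩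
          | one => exact ⟨R.one_mem, by rw [one_pow]; exact P.one_mem⟩
          | mul x y _ _ hx hy =>
            refine ⟨R.mul_mem hx.1 hy.1, (QuotientGroup.eq_one_iff _).mp ?_⟩
            show π ((x * y) ^ p) = 1
            have hxy : Commute (π x) (π y) :=
              (mem_centralizer_iff.mp (hab (mem_map_of_mem π hx.1)) _ (mem_map_of_mem π hy.1)).symm
            rw [map_pow, map_mul, hxy.mul_pow, ← map_pow, ← map_pow,
              show π (x ^ p) = 1 from (QuotientGroup.eq_one_iff _).mpr hx.2,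
              show π (y ^ p) = 1 from (QuotientGroup.eq_one_iff _).mpr hy.2, mul_one]
          | inv x _ hx => exact ⟨R.inv_mem hx.1, by rw [inv_pow]; exact P.inv_mem hx.2⟩
        · exact ⟨hTR hz, hTp z hz⟩
      | one => exact ⟨R.one_mem, by rw [one_pow]; exact P.one_mem⟩
      | mul x y _ _ hx hy =>
        refine ⟨R.mul_mem hx.1 hy.1, (QuotientGroup.eq_one_iff _).mp ?_⟩
        show π ((x * y) ^ p) = 1
        have hxy : Commute (π x) (π y) :=
          (mem_centralizer_iff.mp (hab (mem_map_of_mem π hx.1)) _ (mem_map_of_mem π hy.1)).symm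
        rw [map_pow, map_mul, hxy.mul_pow, ← map_pow, ← map_pow,
          show π (x ^ p) = 1 from (QuotientGroup.eq_one_iff _).mpr hx.2,
          show π (y ^ p) = 1 from (QuotientGroup.eq_one_iff _).mpr hy.2, mul_one]
      | inv x _ hx => exact ⟨R.inv_mem hx.1, by rw [inv_pow]; exact P.inv_mem hx.2⟩
    exact (key r hr).2
  -- the section `R/T`
  have hQ'S : ⁅Q', S₀⁆ ≤ T := by
    rw [commutator_comm, ← hS]
    refine commutator_sup_le ?_ ((commutator_mono le_rfl hQ'R).trans hRT)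
    rw [commutator_comm]; exact hQ'2.trans hVT
  have hcjU : cj a U ≤ Q := by
    refine le_inf (hcjR a hUR) (commutator_eq_bot_iff_le_centralizer.mp (cj_comm_bot
      (n.commutator_eq_bot.mp ?_)))
    rw [commutator_comm]
    exact le_bot_iff.mp ((commutator_mono hlu le_rfl).trans
      ((commutator_comm _ _).trans_le u.commutator_V_R.le))
  have hcjQ' : cj a Q' = Q := by
    refine eq_of_le_of_card_ge ?_ ?_
    · rw [← hQ'T, cj_sup, cj_normal a T]; exact sup_le hcjU inf_le_left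
    · rw [card_cj]
      exact hcardQQ'.le
  have hV1U2 : ⁅V1, U2⁆ ≤ Q' := by
    refine le_inf ((commutator_mono hV1R le_top).trans (commutator_le_left R ⊤)) ?_
    refine commutator_eq_bot_iff_le_centralizer.mp (commutator_commutator_eq_bot_of_rotate ?_ ?_)
    · rw [commutator_comm U2 U, hUU2, commutator_bot_left]
    · exact le_bot_iff.mp ((commutator_mono (hE.trans inf_le_right) le_top).trans
        (commutator_eq_bot_iff_le_centralizer.mpr le_rfl).le)
  have hRS' : ⁅R, S₀⁆ ≤ Q' := by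
    rw [commutator_le]
    intro r hr s hs
    have hs' : s ∈ ((U2 ⊔ R : Subgroup n.G) : Set n.G) := hS.ge hs
    rw [mul_normal U2 R] at hs'
    obtain ⟨y, hy, r', hr', rfl⟩ := hs'
    have hyn : y ∈ normalizer (Q' : Set n.G) :=
      le_normalizer_iff_commutator_le_left.mpr ((hQ'2.trans hVQ')) hy
    have hr₂ : r ∈ ((V1 ⊔ Q' : Subgroup n.G) : Set n.G) := hV1Q'R.ge hr
    rw [coe_mul_of_left_le_normalizer_right V1 Q' (hV1R.trans hRnQ')] at hr₂
    obtain ⟨v, hv, w, hw, rfl⟩ := hr₂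
    have e : ⁅v * w, y * r'⁆ =
        (v * ⁅w, y⁆ * v⁻¹) * ⁅v, y⁆ * (y * ⁅v * w, r'⁆ * y⁻¹) := by
      simp only [commutatorElement_def]; group
    simp only [e]
    refine Q'.mul_mem (Q'.mul_mem ?_ (hV1U2 (commutator_mem_commutator hv hy))) ?_
    · exact (mem_normalizer_iff.mp (hRnQ' (hV1R hv)) _).mp
        (hVQ' (hQ'2 (commutator_mem_commutator hw hy)))
    · exact (mem_normalizer_iff.mp hyn _).mp
        (inf_le_right (a := Q) (hRT (commutator_mem_commutator hr hr')))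
  have hfix' : ∀ s ∈ cj a S₀, s ∉ R → ∀ r ∈ R, ⁅r, s⁆ ∈ T → r ∈ Q := by
    intro s hs hsR r hr hrs
    have hr' : r ∈ ((U ⊔ Q : Subgroup n.G) : Set n.G) := hUQR.ge hr
    rw [coe_mul_of_left_le_normalizer_right U Q (hUR.trans hRnQ)] at hr'
    obtain ⟨w, hw, k, hk, rfl⟩ := hr'
    refine Q.mul_mem ?_ hk
    have hks : ⁅k, s⁆ ∈ T := by
      have h := cj_mono (a := a) hQ'S
      rw [cj_commutator, hcjQ', cj_normal a T] at h
      exact h (commutator_mem_commutator hk hs)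
    set π := QuotientGroup.mk' T
    have hall : (⊤ : Subgroup n.G) ≤ (centralizer ({π w} : Set (n.G ⧸ T))).comap π := by
      rw [← B.gen hs hsR]
      have hmem : ∀ g, ⁅w, g⁆ ∈ T → g ∈ (centralizer ({π w} : Set (n.G ⧸ T))).comap π := fun g hg =>
        mem_centralizer_singleton_iff.mpr (commutatorElement_eq_one_iff_mul_comm.mp (by
          rw [← map_commutatorElement]; exact (QuotientGroup.eq_one_iff _).mpr hg)).symm
      refine sup_le (zpowers_le.mpr (hmem s ?_)) fun g hg =>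
        hmem g (hQ'S (commutator_mem_commutator (hUQ' hw) hg))
      have e : ⁅w, s⁆ = (w * ⁅k, s⁆ * w⁻¹)⁻¹ * ⁅w * k, s⁆ := by
        simp only [commutatorElement_def]; group
      rw [e]
      exact T.mul_mem (T.inv_mem (hTn.conj_mem _ hks w)) hrs
    have h1 : π (a * w * a⁻¹) = π w := by
      rw [map_mul, map_mul, map_inv,
        show π a * π w = π w * π a from mem_centralizer_singleton_iff.mp (hall (mem_top a)),
        mul_inv_cancel_right]
    have h2 : (a * w * a⁻¹)⁻¹ * w ∈ T := QuotientGroup.eq.mp h1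
    have h3 : a * w * a⁻¹ ∈ Q := hcjU (mem_cj.mpr (by simpa [mul_assoc] using hw))
    have h4 := Q.mul_mem h3 (inf_le_left (b := Q') h2)
    rwa [mul_inv_cancel_left] at h4
  have hfixS : ∀ s ∈ S₀, s ∉ R → ∀ r ∈ R, ⁅r, s⁆ ∈ T → r ∈ Q' := fun s hs hsR r hr h => by
    have h1 : a * r * a⁻¹ ∈ Q := by
      refine hfix' (a * s * a⁻¹) (mem_cj.mpr (by simpa [mul_assoc] using hs)) (fun h' => hsR ?_)
        _ (Normal.conj_mem inferInstance r hr a) ?_
      · simpa [mul_assoc] using Normal.conj_mem ‹(pCore p n.G).Normal› _ h' a⁻¹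
      · rw [show ⁅a * r * a⁻¹, a * s * a⁻¹⁆ = a * ⁅r, s⁆ * a⁻¹ by
          simp only [commutatorElement_def]; group]
        exact hTn.conj_mem _ h a
    rw [← hcjQ'] at h1
    simpa [mul_assoc] using mem_cj.mp h1
  -- `q ≤ q'`
  have hqle : q ≤ q' := by
    obtain ⟨v₁, hv₁, hv₁Q⟩ : ∃ v ∈ V1, v ∉ Q' := by
      refine SetLike.not_le_iff_exists.mp fun h => c ?_
      apply n.commutator_eq_bot.mpr
      rw [eV1, commutator_comm]
      exact commutator_eq_bot_iff_le_centralizer.mpr (h.trans inf_le_right)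
    haveI : (T.subgroupOf Q').Normal := inferInstance
    let f : ↥S₀ →* ↥Q' ⧸ T.subgroupOf Q' :=
      { toFun := fun s => QuotientGroup.mk ⟨⁅v₁, (s : n.G)⁆,
          hRS' (commutator_mem_commutator (hV1R hv₁) s.2)⟩
        map_one' := by
          refine (QuotientGroup.eq_one_iff _).mpr ?_
          rw [mem_subgroupOf]
          simp
        map_mul' := fun s t => by
          rw [← QuotientGroup.mk_mul, QuotientGroup.eq, mem_subgroupOf]
          have h1 : ⁅⁅v₁, (t : n.G)⁆, (s : n.G)⁆ ∈ T := hQ'S (commutator_mem_commutator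
            (hRS' (commutator_mem_commutator (hV1R hv₁) t.2)) s.2)
          set x := ⁅v₁, (s : n.G)⁆ with hxdef
          set y := ⁅v₁, (t : n.G)⁆ with hydef
          have e : ⁅v₁, (s : n.G) * (t : n.G)⁆ = x * ⁅y, (s : n.G)⁆⁻¹ * y := by
            simp only [hxdef, hydef, commutatorElement_def]; group
          simp only [Subgroup.coe_mul, Subgroup.coe_inv, e]
          rw [show (x * ⁅y, (s : n.G)⁆⁻¹ * y)⁻¹ * (x * y) = y⁻¹ * ⁅y, (s : n.G)⁆ * y by group]
          simpa using hTn.conj_mem _ h1 y⁻¹ }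
    have hker : f.ker ≤ R.subgroupOf S₀ := fun s hs => by
      by_contra h
      refine hv₁Q (hfixS s s.2 h v₁ (hV1R hv₁) ?_)
      exact (QuotientGroup.eq_one_iff (N := T.subgroupOf Q') _).mp hs
    have hTQ : T ≤ Q' := inf_le_right
    have hidx : T.relIndex Q' = q' := by
      have h1 := LocalEvenBasic.card_mul_relIndex_of_le T Q' hTQ
      rw [← hcardQQ', hcardT, mul_comm q'] at h1
      exact Nat.eq_of_mul_eq_mul_left Nat.card_pos h1
    calc q = R.relIndex S₀ := B.data.index_core.symm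
      _ ≤ f.ker.index := Nat.le_of_dvd (Nat.pos_of_ne_zero index_ne_zero_of_finite)
          (index_dvd_of_le hker)
      _ = Nat.card f.range := index_ker f
      _ ≤ Nat.card (↥Q' ⧸ T.subgroupOf Q') := card_le_card_group f.range
      _ = q' := hidx
  refine ⟨hqle, fun hqq => ?_⟩

  obtain ⟨-, ⟨PS, hPS⟩, -, -, K₀, hK₀, F, _, _, nn, hF, ⟨e⟩⟩ := n.sit
  haveI := hK₀
  have B' : PUCore p (PS : Subgroup n.G) n.M q a := by rw [hPS]; exact B
  obtain ⟨φ, -, hker, hU, hL, hq⟩ := exists_pslHom B' K₀ hF e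
  have hnat : IsNatSection p S₀ a q R T Q' :=
    { normX := inferInstance
      normY := hTn
      le_D := inf_le_right
      D_le := hQ'R
      sup := by
        rw [hcjQ']
        exact le_antisymm (sup_le hQ'R hQR) (hUQR.ge.trans (sup_le_sup_right hUQ' _))
      inf := by rw [hcjQ', inf_comm]
      card := by rw [← hcardQQ', hcardT, ← hqq]
      comm := hRT
      pow := fun r hr => (hRp r hr).1
      core := hRT
      quad := hRS'
      triv := hQ'S
      fix := hfixS }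
  obtain ⟨ρ, ψ, hstd, hρ, hψ, hψker, hψeq, hρker, -, hψ1⟩ :=
    IsNatSection.exists_rep B' B'.natSection hF hker hU hL hq
  obtain ⟨ρ', ψ', hstd', -, hψ', hψ'ker, hψ'eq, hρ'ker, -, hψ'1⟩ :=
    IsNatSection.exists_rep B' (show IsNatSection p (PS : Subgroup n.G) a q R T Q' by
      rw [hPS]; exact hnat) hF hker hU hL hq
  rw [hPS] at hker hU hL hstd hstd' hψ1
  obtain rfl := Standard.eq B hU hL hstd hstd'
  have hn : Fintype.card F = p ^ nn := hF
  have hV2p : ∀ x ∈ V2, x ^ p = 1 := by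
    rintro _ ⟨_, ⟨v, hv, rfl⟩, rfl⟩
    rw [← map_pow, ← map_pow, Node.pow_eq_one_of_mem_act (n := n) (fun y hy => l₂.V_pow hy) hv,
      map_one, map_one]
  have hkerR : ρ.ker = R := by
    refine le_antisymm (le_core_of_centralizing B.data.cpSelf fun x hx hxp => ?_) fun r hr =>
      (hρker r).mpr fun v hv => B.natSection.core (commutator_mem_commutator hv hr)
    have hxN := mem_of_sup_eq_top B.data.isPGroup hNS hxp
    have h0 : ∀ y ∈ V0, Commute x y := fun y hy => mem_centralizer_iff.mp hy.2 x (mem_top x)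
    have h1 := commute_step B.data.isPGroup (hV0V.trans hVS) hxp h0 ((hρker x).mp hx)
    have h2 := commute_step B.data.isPGroup hVS hxp h1
      fun t ht => hTN (commutator_mem_commutator ht hxN)
    have h3 := commute_step B.data.isPGroup (hTR.trans hRS) hxp h2 ((hρ'ker x).mp hx)
    exact mem_centralizer_iff.mpr fun r hr => (h3 r hr).eq.symm
  -- cubic action
  have hRSQ : ⁅R, cj a S₀⁆ ≤ Q := by
    have := cj_mono (a := a) hRS'
    rwa [cj_commutator, cj_normal a R, hcjQ'] at this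
  have hcub : ∀ w ∈ R, ∀ x ∈ cj a S₀, ∃ v ∈ V, ∀ x' ∈ V2, ⁅⁅w, x⁆, x'⁆ = ⁅v, x'⁆ :=
    fun w hw x hx => hQ2.2 _ (hRSQ (commutator_mem_commutator hw hx))
  have hVC1 : ⁅V, cj a S₀⁆ ≤ C1 := by
    have := cj_mono (a := a) B.quad
    rwa [cj_commutator, cj_normal a V] at this
  have hone : ∀ v ∈ V, ∀ x ∈ cj a S₀, ⁅v, x⁆ ∈ V0 → ⁅v, x⁆ = 1 := by
    intro v hv x hx h
    have h2 := B.commutator_eq_one (v := a⁻¹ * v * a) (s := a⁻¹ * x * a)
      (by simpa using Normal.conj_mem (zR_normal (G := n.G) p) v hv a⁻¹) (mem_cj.mp hx) (by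
        rw [show ⁅a⁻¹ * v * a, a⁻¹ * x * a⁆ = a⁻¹ * ⁅v, x⁆ * a by
          simp only [commutatorElement_def]; group]
        simpa using Normal.conj_mem (zG_normal (G := n.G) p) _ h a⁻¹)
    rw [show ⁅v, x⁆ = a * ⁅a⁻¹ * v * a, a⁻¹ * x * a⁆ * a⁻¹ by
      simp only [commutatorElement_def]; group, h2, mul_one, mul_inv_cancel]
  have hSan : cj a S₀ ≤ normalizer ((C1 ⊔ P : Subgroup n.G) : Set n.G) := by
    intro s hs
    refine mem_normalizer_iff_map_conj_eq.mpr ?_
    rw [Subgroup.map_sup]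
    refine congrArg₂ (· ⊔ ·) ?_ (cj_normal s P)
    ext y
    show y ∈ cj s C1 ↔ y ∈ C1
    have hcs : ∀ c ∈ C1, Commute c s := fun c hc => by
      have h1 := mem_centralizer_iff.mp (mem_cj.mp hc).2 _ (mem_cj.mp hs)
      show c * s = s * c
      calc c * s = a * ((a⁻¹ * c * a) * (a⁻¹ * s * a)) * a⁻¹ := by group
        _ = a * ((a⁻¹ * s * a) * (a⁻¹ * c * a)) * a⁻¹ := by rw [h1]
        _ = s * c := by group
    rw [mem_cj]
    constructor
    · intro hy
      rw [show y = s * (s⁻¹ * y * s) * s⁻¹ by group, ← (hcs _ hy).eq, mul_inv_cancel_right]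
      exact hy
    · intro hy
      rwa [mul_assoc, (hcs y hy).eq, inv_mul_cancel_left]
  have hgamma : ∀ Y : Subgroup n.G, P ≤ Y → cj a S₀ ≤ normalizer (Y : Set n.G) →
      (∀ w ∈ R, ∀ x ∈ V2, ∀ x' ∈ V2, ⁅⁅w, x⁆, x'⁆ ∈ Y) →
      ⁅⁅cj a S₀, cj a S₀⁆, cj a S₀⁆ ≤ Y := by
    intro Y hPY hY hyp
    have hconj : ∀ s ∈ cj a S₀, ∀ y ∈ Y, s * y * s⁻¹ ∈ Y :=
      fun s hs y hy => (mem_normalizer_iff.mp (hY hs) y).mp hy
    let Z : Subgroup n.G :=
      { carrier := {g | g ∈ R ∧ ∀ s ∈ cj a S₀, ⁅g, s⁆ ∈ Y}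
        one_mem' := ⟨R.one_mem, fun s _ => by rw [commutatorElement_one_left]; exact Y.one_mem⟩
        mul_mem' := fun {g g'} hg hg' => ⟨R.mul_mem hg.1 hg'.1, fun s hs => by
          rw [show ⁅g * g', s⁆ = g * ⁅g', s⁆ * g⁻¹ * ⁅g, s⁆ by
            simp only [commutatorElement_def]; group]
          exact Y.mul_mem (hconj g (hRSa hg.1) _ (hg'.2 s hs)) (hg.2 s hs)⟩
        inv_mem' := fun {g} hg => ⟨R.inv_mem hg.1, fun s hs => by
          rw [show ⁅g⁻¹, s⁆ = g⁻¹ * ⁅g, s⁆⁻¹ * g⁻¹⁻¹ by simp only [commutatorElement_def]; group]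
          exact hconj _ ((cj a S₀).inv_mem (hRSa hg.1)) _ (Y.inv_mem (hg.2 s hs))⟩ }
    have hPZ : P ≤ Z := fun π hπ => ⟨hPR hπ, fun s _ => hPY
      (commutator_le_left P ⊤ (commutator_mem_commutator hπ (mem_top s)))⟩
    have hZc : ∀ s ∈ cj a S₀, ∀ g ∈ Z, s * g * s⁻¹ ∈ Z := fun s hs g hg =>
      ⟨Normal.conj_mem inferInstance g hg.1 s, fun s' hs' => by
        rw [show ⁅s * g * s⁻¹, s'⁆ = s * ⁅g, s⁻¹ * s' * s⁆ * s⁻¹ by
          simp only [commutatorElement_def]; group]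
        exact hconj s hs _ (hg.2 _ ((cj a S₀).mul_mem ((cj a S₀).mul_mem
          ((cj a S₀).inv_mem hs) hs') hs))⟩
    have hZ : ∀ w ∈ R, ∀ x ∈ V2, ⁅w, x⁆ ∈ Z := fun w hw x hx =>
      ⟨commutator_le_left R ⊤ (commutator_mem_commutator hw (mem_top x)), fun s hs => by
        have hs' : s ∈ ((V2 ⊔ R : Subgroup n.G) : Set n.G) := hSa.ge hs
        rw [mul_normal V2 R] at hs'
        obtain ⟨x', hx', r, hr, rfl⟩ := hs'
        rw [show ⁅⁅w, x⁆, x' * r⁆ = ⁅⁅w, x⁆, x'⁆ * (x' * ⁅⁅w, x⁆, r⁆ * x'⁻¹) by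
          simp only [commutatorElement_def]; group]
        refine Y.mul_mem (hyp w hw x hx x' hx') (hconj x' (hV2S hx') _ (hPY (hR'P ?_)))
        exact commutator_mem_commutator
          (commutator_le_left R ⊤ (commutator_mem_commutator hw (mem_top x))) hr⟩
    have hV2ab : ⁅V2, V2⁆ = ⊥ := cj_comm_bot (n.commutator_eq_bot.mp (l.act_comm l₂.V_comm))
    have hZle : ⁅cj a S₀, cj a S₀⁆ ≤ Z := by
      rw [commutator_le]
      intro s hs s' hs'
      have hs₁ : s ∈ ((V2 ⊔ R : Subgroup n.G) : Set n.G) := hSa.ge hs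
      have hs₂ : s' ∈ ((V2 ⊔ R : Subgroup n.G) : Set n.G) := hSa.ge hs'
      rw [mul_normal V2 R] at hs₁ hs₂
      obtain ⟨x, hx, r, hr, rfl⟩ := hs₁
      obtain ⟨x', hx', r', hr', rfl⟩ := hs₂
      have e : ⁅x * r, x' * r'⁆ = x * (⁅r, x'⁆ * (x' * ⁅r, r'⁆ * x'⁻¹)) * x⁻¹ *
          (⁅x, x'⁆ * (x' * ⁅r', x⁆⁻¹ * x'⁻¹)) := by
        simp only [commutatorElement_def]; group
      simp only [e]
      refine Z.mul_mem (hZc x (hV2S hx) _ (Z.mul_mem (hZ r hr x' hx')
        (hZc x' (hV2S hx') _ (hPZ (hR'P (commutator_mem_commutator hr hr')))))) (Z.mul_mem ?_ ?_)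
      · rw [mem_bot.mp (hV2ab.le (commutator_mem_commutator hx hx'))]; exact Z.one_mem
      · exact hZc x' (hV2S hx') _ (Z.inv_mem (hZ r' hr' x hx))
    refine (commutator_mono hZle le_rfl).trans ?_
    rw [commutator_le]
    exact fun g hg s hs => hg.2 s hs
  have hback : ∀ {Y : Subgroup n.G}, ⁅⁅cj a S₀, cj a S₀⁆, cj a S₀⁆ ≤ cj a Y →
      ⁅⁅S₀, S₀⁆, S₀⁆ ≤ Y := fun h => by
    rw [← cj_commutator, ← cj_commutator] at h
    simpa [cj_inv_cj] using cj_mono (a := a⁻¹) h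
  set γ := ⁅⁅S₀, S₀⁆, S₀⁆ with hγ
  have hS'le : ⁅S₀, S₀⁆ ≤ S₀ := commutator_le_self S₀
  -- some `[w, x, x]` is outside `P`
  have hnotP3 : p ≠ 3 → γ ≤ P := fun h3 => by
    by_contra hnotP
    obtain ⟨w₁, hw₁, x₁, hx₁, hf₁⟩ : ∃ w ∈ R, ∃ x ∈ V2, ⁅⁅w, x⁆, x⁆ ∉ P := by
      by_contra hno
      push Not at hno
      refine hnotP (hback ?_)
      rw [cj_normal a P]
      refine hgamma P le_rfl (by rw [normalizer_eq_top]; exact le_top) fun w hw x hx x' hx' => ?_
      by_cases hxR : x ∈ R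
      · exact commutator_le_left P ⊤ (commutator_mem_commutator
          (hR'P (commutator_mem_commutator hw hxR)) (mem_top x'))
      obtain ⟨v, hv, e⟩ := hcub w hw x (hV2S hx)
      have h1 : ⁅v, x⁆ = 1 := by
        refine hone v hv x (hV2S hx) (hPV ⟨?_, ?_⟩)
        · rw [← e x hx]; exact hno w hw x hx
        · exact commutator_le_left V ⊤ (commutator_mem_commutator hv (mem_top x))
      have h2 : v ∈ C1 := by
        rw [hC1, hC, ← B.fix_cj (hV2S hx) hxR]
        exact ⟨hv, mem_centralizer_singleton_iff.mpr (commutatorElement_eq_one_iff_mul_comm.mp h1)⟩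
      have h3 : ⁅v, x'⁆ = 1 := by
        refine commutatorElement_eq_one_iff_mul_comm.mpr ?_
        have h4 := mem_centralizer_iff.mp (mem_cj.mp h2).2 _ (mem_cj.mp (hV2S hx'))
        calc v * x' = a * ((a⁻¹ * v * a) * (a⁻¹ * x' * a)) * a⁻¹ := by group
          _ = a * ((a⁻¹ * x' * a) * (a⁻¹ * v * a)) * a⁻¹ := by rw [h4]
          _ = x' * v := by group
      rw [e x' hx', h3]
      exact P.one_mem
    -- computing modulo `P`
    set π := QuotientGroup.mk' P with hπ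
    have hπP : ∀ g, π g = 1 ↔ g ∈ P := fun g => QuotientGroup.eq_one_iff g
    have hRab : ∀ r ∈ R, ∀ r' ∈ R, Commute (π r) (π r') := fun r hr r' hr' =>
      commutatorElement_eq_one_iff_mul_comm.mp (by
        rw [← map_commutatorElement]
        exact (hπP _).mpr (hR'P (commutator_mem_commutator hr hr')))
    have hRexp : ∀ r ∈ R, π r ^ p = 1 := fun r hr => by rw [← map_pow]; exact (hπP _).mpr (hRp r hr)
    have hfacts : ∀ w ∈ R, ∀ x ∈ V2, ⁅w, x⁆ ∈ R ∧ ⁅⁅w, x⁆, x⁆ ∈ C1 ∧ Commute ⁅⁅w, x⁆, x⁆ x := by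
      intro w hw x hx
      refine ⟨commutator_le_left R ⊤ (commutator_mem_commutator hw (mem_top x)), ?_⟩
      obtain ⟨v, hv, e⟩ := hcub w hw x (hV2S hx)
      rw [e x hx]
      have hm : ⁅v, x⁆ ∈ C1 := hVC1 (commutator_mem_commutator hv (hV2S hx))
      refine ⟨hm, ?_⟩
      have h4 := mem_centralizer_iff.mp (mem_cj.mp hm).2 _ (mem_cj.mp (hV2S hx))
      show _ = _
      calc ⁅v, x⁆ * x = a * ((a⁻¹ * ⁅v, x⁆ * a) * (a⁻¹ * x * a)) * a⁻¹ := by group
        _ = a * ((a⁻¹ * x * a) * (a⁻¹ * ⁅v, x⁆ * a)) * a⁻¹ := by rw [h4]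
        _ = x * ⁅v, x⁆ := by group
    have hp := (Fact.out : p.Prime)
    have hp2 : p ≠ 2 := by
      intro h2
      subst h2
      obtain ⟨hu, -, -⟩ := hfacts w₁ hw₁ x₁ hx₁
      have hx2 : x₁ * x₁ = 1 := by rw [← sq]; exact hV2p x₁ hx₁
      have hxi : x₁⁻¹ = x₁ := inv_eq_of_mul_eq_one_right hx2
      refine hf₁ ?_
      have e : ⁅⁅w₁, x₁⁆, x₁⁆ = ⁅w₁, x₁⁆ ^ 2 := by
        simp only [commutatorElement_def, sq, mul_inv_rev, inv_inv, hxi, mul_assoc]
        simp only [← mul_assoc x₁ x₁, hx2, one_mul]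
      rw [e]
      exact hRp _ hu
    obtain ⟨hu, hfC, hfx⟩ := hfacts w₁ hw₁ x₁ hx₁
    set u := ⁅w₁, x₁⁆ with hudef
    set f := ⁅u, x₁⁆ with hfdef
    set X := π x₁ with hX
    have hfR : f ∈ R := hC1V.trans hVR hfC
    have hfX : Commute (π f) X := hfx.map π
    -- a torus element
    haveI : CharP F p := charP_of_card_eq_prime_pow (f := nn) hn
    have h2F : (2 : F) ≠ 0 := fun h => hp2 ((Nat.prime_dvd_prime_iff_eq hp Nat.prime_two).mp
      ((CharP.cast_eq_zero_iff F p 2).mp (by exact_mod_cast h)))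
    obtain ⟨h, hh⟩ := hρ (diagHom (Units.mk0 (2 : F) h2F))
    obtain ⟨t, ht⟩ := hU.le (mem_map_of_mem φ (hV2S hx₁))
    have hρx : ρ x₁ = upperHom F t := hstd.1 x₁ (hV2S hx₁) t ht.symm
    set r := (x₁ ^ 4)⁻¹ * (h * x₁ * h⁻¹) with hrdef
    have hrR : r ∈ R := by
      rw [← hkerR, MonoidHom.mem_ker, hrdef, map_mul, map_mul, map_mul, map_inv, map_inv, map_pow,
        hρx, hh, inv_mul_eq_one, ← map_pow]
      conv_rhs => rw [show upperHom F t = upperHom F (.ofAdd t.toAdd) from rfl, diag_mul_upper,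
        mul_inv_cancel_right]
      congr 1
      apply Multiplicative.toAdd.injective
      rw [toAdd_pow, toAdd_ofAdd, nsmul_eq_mul, Units.val_mk0]
      norm_num
    have hconj : h * x₁ * h⁻¹ = x₁ ^ 4 * r := by rw [hrdef, mul_inv_cancel_left]
    set w' := h * w₁ * h⁻¹ with hw'def
    have hw'R : w' ∈ R := Normal.conj_mem inferInstance w₁ hw₁ h
    -- `[·, x₁]` on `R` modulo `P`
    have hcomm : ∀ r₁ ∈ R, ∀ r₂ ∈ R,
        π ⁅r₁ * r₂, x₁⁆ = π ⁅r₁, x₁⁆ * π ⁅r₂, x₁⁆ := by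
      intro r₁ hr₁ r₂ hr₂
      have h2 := commutator_le_left R ⊤ (commutator_mem_commutator hr₂ (mem_top x₁))
      have h1 := commutator_le_left R ⊤ (commutator_mem_commutator hr₁ (mem_top x₁))
      rw [show ⁅r₁ * r₂, x₁⁆ = r₁ * ⁅r₂, x₁⁆ * r₁⁻¹ * ⁅r₁, x₁⁆ by
        simp only [commutatorElement_def]; group, map_mul, map_mul, map_mul, map_inv,
        (hRab r₁ hr₁ _ h2).eq, mul_inv_cancel_right, (hRab _ h2 _ h1).eq]
    have hpowk : ∀ r₁ ∈ R, Commute (π ⁅r₁, x₁⁆) X → ∀ k : ℕ,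
        π ⁅r₁, x₁ ^ k⁆ = π ⁅r₁, x₁⁆ ^ k := by
      intro r₁ _ hc k
      induction k with
      | zero => rw [pow_zero, pow_zero, commutatorElement_one_right, map_one]
      | succ k ih =>
        rw [pow_succ', show ⁅r₁, x₁ * x₁ ^ k⁆ = ⁅r₁, x₁⁆ * (x₁ * ⁅r₁, x₁ ^ k⁆ * x₁⁻¹) by
          simp only [commutatorElement_def]; group, map_mul, map_mul, map_mul, map_inv, ih,
          show π x₁ = X from rfl, (hc.pow_left k).symm.eq, mul_inv_cancel_right, pow_succ']
    have hFhom : ∀ r₁ ∈ R, ∀ r₂ ∈ R,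
        π ⁅⁅r₁ * r₂, x₁⁆, x₁⁆ = π ⁅⁅r₁, x₁⁆, x₁⁆ * π ⁅⁅r₂, x₁⁆, x₁⁆ := by
      intro r₁ hr₁ r₂ hr₂
      have e1 := (hfacts r₁ hr₁ x₁ hx₁).1
      have e2 := (hfacts r₂ hr₂ x₁ hx₁).1
      rw [← hcomm _ e1 _ e2, map_commutatorElement π ⁅r₁ * r₂, x₁⁆, hcomm r₁ hr₁ r₂ hr₂, ← map_mul,
        ← map_commutatorElement]
    set F' := fun w : n.G => π ⁅⁅w, x₁⁆, x₁⁆ with hF'
    -- `[w, x⁴, x⁴] = [w, x, x]¹⁶`
    have h16 : ∀ w ∈ R, π ⁅⁅w, x₁ ^ 4⁆, x₁ ^ 4⁆ = F' w ^ 16 := by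
      intro w hw
      obtain ⟨hu', hfC', hfx'⟩ := hfacts w hw x₁ hx₁
      set u' := ⁅w, x₁⁆
      set f' := ⁅u', x₁⁆
      have hfR' : f' ∈ R := hC1V.trans hVR hfC'
      have hxu : ∀ k, ∃ j : ℕ, π ⁅w, x₁ ^ k⁆ = π u' ^ k * (π f')⁻¹ ^ j := by
        intro k
        induction k with
        | zero => exact ⟨0, by simp⟩
        | succ k ih =>
          obtain ⟨j, hj⟩ := ih
          refine ⟨k + j, ?_⟩
          have hxu' : X * π u' * X⁻¹ = (π f')⁻¹ * π u' := by
            rw [hX, ← map_inv, ← map_mul, ← map_mul, ← map_inv, ← map_mul]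
            congr 1
            simp only [f', commutatorElement_def]; group
          have hcf : Commute (π f') (π u') := hRab f' hfR' u' hu'
          have hxf : X * (π f')⁻¹ ^ j * X⁻¹ = (π f')⁻¹ ^ j := by
            rw [(((hfx'.map π).inv_left).pow_left j).symm.eq, mul_inv_cancel_right]
          rw [pow_succ', show ⁅w, x₁ * x₁ ^ k⁆ = u' * (x₁ * ⁅w, x₁ ^ k⁆ * x₁⁻¹) by
            simp only [u', commutatorElement_def]; group, map_mul, map_mul, map_mul, map_inv, hj,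
            show π x₁ = X from rfl,
            show X * (π u' ^ k * (π f')⁻¹ ^ j) * X⁻¹ =
              (X * π u' * X⁻¹) ^ k * (X * (π f')⁻¹ ^ j * X⁻¹) by rw [conj_pow]; group,
            hxu', hxf, (hcf.inv_left).mul_pow, pow_succ' (π u'), pow_add]
          simp only [← mul_assoc]
          congr 1
          rw [mul_assoc, ((hcf.inv_left).pow_pow k k).eq, ← mul_assoc]
      obtain ⟨j, hj⟩ := hxu 4
      have e3 : π ⁅⁅w, x₁ ^ 4⁆, x₁ ^ 4⁆ = ⁅π u' ^ 4 * (π f')⁻¹ ^ j, π (x₁ ^ 4)⁆ := by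
        rw [map_commutatorElement, hj]
      have hu4 : u' ^ 4 ∈ R := R.pow_mem hu' 4
      have hfj : ⁅(π f')⁻¹ ^ j, π (x₁ ^ 4)⁆ = 1 := by
        rw [commutatorElement_eq_one_iff_mul_comm, map_pow]
        exact ((((hfx'.map π).inv_left).pow_left j).pow_right 4).eq
      have e4 : ⁅π u' ^ 4, π (x₁ ^ 4)⁆ = F' w ^ 16 := by
        rw [← map_pow, ← map_commutatorElement, hpowk (u' ^ 4) hu4 ?_ 4]
        · rw [show π ⁅u' ^ 4, x₁⁆ = π f' ^ 4 by
            rw [show u' ^ 4 = u' * u' * (u' * u') by rw [show (4 : ℕ) = 2 + 2 from rfl, pow_add, sq],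
              hcomm _ (R.mul_mem hu' hu') _ (R.mul_mem hu' hu'), hcomm _ hu' _ hu',
              show (4 : ℕ) = 2 + 2 from rfl, pow_add, sq], ← pow_mul]
        · rw [show u' ^ 4 = u' * u' * (u' * u') by rw [show (4 : ℕ) = 2 + 2 from rfl, pow_add, sq],
            hcomm _ (R.mul_mem hu' hu') _ (R.mul_mem hu' hu'), hcomm _ hu' _ hu']
          exact ((hfx'.map π).mul_left (hfx'.map π)).mul_left ((hfx'.map π).mul_left (hfx'.map π))
      rw [e3, show ⁅π u' ^ 4 * (π f')⁻¹ ^ j, π (x₁ ^ 4)⁆ = π u' ^ 4 *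
        ⁅(π f')⁻¹ ^ j, π (x₁ ^ 4)⁆ * (π u' ^ 4)⁻¹ * ⁅π u' ^ 4, π (x₁ ^ 4)⁆ by
          simp only [commutatorElement_def]; group, hfj, mul_one, mul_inv_cancel, one_mul, e4]
    -- weights
    have hfh : π (h * f * h⁻¹) = F' w' ^ 16 := by
      rw [← h16 w' hw'R, hfdef, hudef,
        show h * ⁅⁅w₁, x₁⁆, x₁⁆ * h⁻¹ = ⁅⁅h * w₁ * h⁻¹, h * x₁ * h⁻¹⁆, h * x₁ * h⁻¹⁆ by
          simp only [commutatorElement_def]; group, hconj]
      have hstep : ∀ z ∈ R, π ⁅z, x₁ ^ 4 * r⁆ = π ⁅z, x₁ ^ 4⁆ := fun z hz => by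
        rw [show ⁅z, x₁ ^ 4 * r⁆ = ⁅z, x₁ ^ 4⁆ * (x₁ ^ 4 * ⁅z, r⁆ * (x₁ ^ 4)⁻¹) by
          simp only [commutatorElement_def]; group, map_mul]
        rw [show π (x₁ ^ 4 * ⁅z, r⁆ * (x₁ ^ 4)⁻¹) = 1 from (hπP _).mpr
          (Normal.conj_mem inferInstance _ (hR'P (commutator_mem_commutator hz hrR)) _), mul_one]
      rw [hstep _ (commutator_le_left R ⊤ (commutator_mem_commutator hw'R (mem_top _))),
        map_commutatorElement, hstep w' hw'R, ← map_commutatorElement]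
    have hw'sq : F' w₁ = F' w' ^ 2 := by
      have hk : (w' * w')⁻¹ * w₁ ∈ Q := by
        rw [← hcjQ']
        refine (hψ'1 ⟨_, R.mul_mem (R.inv_mem (R.mul_mem hw'R hw'R)) hw₁⟩).mpr ?_
        have e := hψ'eq h ⟨w₁, hw₁⟩ ⟨w', hw'R⟩ rfl
        have em : (⟨(w' * w')⁻¹ * w₁, R.mul_mem (R.inv_mem (R.mul_mem hw'R hw'R)) hw₁⟩ : ↥R) =
            (⟨w', hw'R⟩ * ⟨w', hw'R⟩)⁻¹ * ⟨w₁, hw₁⟩ := rfl
        rw [em, map_mul ψ', map_inv ψ', map_mul ψ']
        show (-((ψ' ⟨w', hw'R⟩).toAdd + (ψ' ⟨w', hw'R⟩).toAdd) + (ψ' ⟨w₁, hw₁⟩).toAdd) 1 = 0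
        rw [e, hh]
        simp only [Pi.add_apply, Pi.neg_apply]
        have hd : ∀ v : Fin 2 → F, ((diagHom (Units.mk0 (2 : F) h2F) : SL(2, F)) :
            Matrix (Fin 2) (Fin 2) F).mulVec v 1 = (2 : F)⁻¹ * v 1 := fun v => by
          show (!![((Units.mk0 (2 : F) h2F : Fˣ) : F), 0;
            0, (((Units.mk0 (2 : F) h2F)⁻¹ : Fˣ) : F)]).mulVec v 1 = _
          simp [Matrix.mulVec, dotProduct, Fin.sum_univ_two]
        rw [hd]
        field_simp
        ring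
      have hkR : (w' * w')⁻¹ * w₁ ∈ R := hQR hk
      have hkF : F' ((w' * w')⁻¹ * w₁) = 1 := by
        obtain ⟨v, hv, e⟩ := hQ2.2 _ hk
        refine (hπP _).mpr ?_
        rw [e x₁ hx₁, commutatorElement_eq_one_iff_mul_comm.mpr ?_]
        · exact P.one_mem
        have hm : ⁅v, x₁⁆ ∈ C1 := hVC1 (commutator_mem_commutator hv (hV2S hx₁))
        have h4 := mem_centralizer_iff.mp (mem_cj.mp hm).2 _ (mem_cj.mp (hV2S hx₁))
        calc ⁅v, x₁⁆ * x₁ = a * ((a⁻¹ * ⁅v, x₁⁆ * a) * (a⁻¹ * x₁ * a)) * a⁻¹ := by group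
          _ = a * ((a⁻¹ * x₁ * a) * (a⁻¹ * ⁅v, x₁⁆ * a)) * a⁻¹ := by rw [h4]
          _ = x₁ * ⁅v, x₁⁆ := by group
      calc F' w₁ = F' ((w' * w') * ((w' * w')⁻¹ * w₁)) := by rw [mul_inv_cancel_left]
        _ = F' (w' * w') * F' ((w' * w')⁻¹ * w₁) := hFhom _ (R.mul_mem hw'R hw'R) _ hkR
        _ = _ := by rw [hkF, mul_one, sq]; exact hFhom _ hw'R _ hw'R
    have hf2 : π (h * f * h⁻¹) = F' w₁ ^ 2 := by
      have hfV : f ∈ V := hC1V hfC
      have hfh' : h * f * h⁻¹ ∈ V := Normal.conj_mem inferInstance f hfV h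
      have h0 : ψ ⟨h * f * h⁻¹, hfh'⟩ = ψ (⟨f, hfV⟩ ^ 2) := by
        apply Multiplicative.toAdd.injective
        rw [hψeq h ⟨f, hfV⟩ _ rfl, map_pow, toAdd_pow, hh]
        have h1 : (ψ ⟨f, hfV⟩).toAdd 1 = 0 := (hψ1 ⟨f, hfV⟩).mp hfC
        show (!![((Units.mk0 (2 : F) h2F : Fˣ) : F), 0;
          0, (((Units.mk0 (2 : F) h2F)⁻¹ : Fˣ) : F)]).mulVec (ψ ⟨f, hfV⟩).toAdd = _
        funext i
        fin_cases i <;> simp [Matrix.mulVec, dotProduct, Fin.sum_univ_two, h1]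
      have h1 : (((((⟨f, hfV⟩ : ↥V) ^ 2)⁻¹ * ⟨h * f * h⁻¹, hfh'⟩ : ↥V)) : n.G) ∈ V0 := by
        have := (hψker (((⟨f, hfV⟩ : ↥V) ^ 2)⁻¹ * ⟨h * f * h⁻¹, hfh'⟩)).mp
          (by rw [map_mul, map_inv, h0, inv_mul_cancel])
        exact this
      have h2 := (hπP _).mpr (hV0P h1)
      rw [Subgroup.coe_mul, Subgroup.coe_inv, SubmonoidClass.coe_pow, map_mul, map_inv, inv_mul_eq_one, map_pow] at h2
      exact h2.symm
    have h6 : F' w₁ ^ 6 = 1 := by
      have h8 : F' w₁ ^ 2 * F' w₁ ^ 6 = F' w₁ ^ 2 * 1 := by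
        rw [mul_one, ← pow_add]
        calc F' w₁ ^ (2 + 6) = (F' w' ^ 2) ^ 8 := by rw [hw'sq]
          _ = F' w' ^ 16 := by rw [← pow_mul]
          _ = _ := by rw [← hfh, hf2]
      exact mul_left_cancel h8
    have hcop : Nat.Coprime p 6 := by
      refine (hp.coprime_iff_not_dvd).mpr fun hd => ?_
      rcases (hp.dvd_mul).mp (show p ∣ 2 * 3 from hd) with h' | h'
      · exact hp2 ((Nat.prime_dvd_prime_iff_eq hp Nat.prime_two).mp h')
      · exact h3 ((Nat.prime_dvd_prime_iff_eq hp Nat.prime_three).mp h')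
    exact hf₁ ((hπP _).mp (orderOf_eq_one_iff.mp (Nat.eq_one_of_dvd_coprimes hcop
      (orderOf_dvd_of_pow_eq_one (hRexp _ hfR)) (orderOf_dvd_of_pow_eq_one h6))))
  have hC1P : ∀ w ∈ R, ∀ x ∈ V2, ∀ x' ∈ V2, ⁅⁅w, x⁆, x'⁆ ∈ C1 ⊔ P := by
    intro w hw x hx x' hx'
    obtain ⟨v, hv, e⟩ := hcub w hw x (hV2S hx)
    rw [e x' hx']
    exact mem_sup_left (hVC1 (commutator_mem_commutator hv (hV2S hx')))
  have hγle : γ ≤ C ⊔ P := hback (by
    rw [cj_sup, cj_normal a P]
    exact hgamma _ le_sup_right hSan hC1P)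
  -- back to `S`
  set K := P.comap n.τ with hK
  have hPmap : K.map n.τ = P := n.map_comap (hPR.trans hRS)
  haveI : K.Normal := Normal.comap ‹P.Normal› _
  obtain ⟨ht1, -, ht3⟩ := pushUp_torus n.sit
  have hγS : (⁅⁅(⊤ : Subgroup S), (⊤ : Subgroup S)⁆, (⊤ : Subgroup S)⁆).map n.τ = γ := by
    rw [map_commutator, map_commutator, n.map_top]
  refine n.central_of_puS0_le hPV ?_
  rw [map_le_iff_le_comap]
  refine puS0_le_of_section (R := n.R) (X := A2) n.isPGroup ?_ (fun x => ?_) ?_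
    (fun r hr => ?_) ?_ (fun h3 => ?_) ?_ inferInstance
    (fun x hx => Node.pow_eq_one_of_mem_act (n := n) (fun y hy => u₂.V_pow hy) hx)
  · rw [commutator_le]
    intro x _ y _
    show n.τ ⁅x, y⁆ ∈ pCore p n.G
    rw [map_commutatorElement]
    exact ht1 _ ⟨x, rfl⟩ _ ⟨y, rfl⟩
  · show n.τ (x ^ p) ∈ pCore p n.G
    rw [map_pow]; exact ht3 _ ⟨x, rfl⟩
  · rw [← n.map_le_map, map_commutator, n.map_R, hPmap]; exact hR'P
  · show n.τ (r ^ p) ∈ P
    rw [map_pow]; exact hRp _ hr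
  · rw [← n.map_le_map, hγS, Subgroup.map_sup, n.map_center, hPmap]; exact hγle
  · rw [← n.map_le_map, hγS, hPmap]; exact hnotP3 h3
  · apply map_injective n.inj
    rw [Subgroup.map_sup, n.map_R, n.map_top]; exact hS

end CfsgLib.LocalEven50.Family
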