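import Cfsg.Agent.LocalEven50.PushingUpPeriodic
import Cfsg.Agent.LocalEven50.ChiefTransfer
import Cfsg.Agent.PLocal.Thompson

/-!
# Several pushing-up situations over one `p`-group

A node is an embedding of the abstract group `S` as a Sylow subgroup of a group in the pushing-up
configuration.  The subgroups `O_p`, `Z(O_p)` are pulled back to `S`, and an element of the ambient
group acts on the subgroups of `S` below `O_p`.
-/

set_option linter.style.haveILetI false
set_option linter.unusedSectionVars false

namespace CfsgLib.LocalEven50.Family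

open Subgroup Cfsg CfsgLib.LocalEven50
open scoped commutatorElement

universe u

/-- An embedding of `S` in the pushing-up configuration. -/
structure Node (p : ℕ) [Fact p.Prime] (S : Type u) [Group S] : Type (u + 1) where
  G : Type u
  [grp : Group G]
  [fin : Finite G]
  τ : S →* G
  inj : Function.Injective τ
  sit : IsPushingUpSituation p τ.range
  M : Subgroup G
  q : ℕ
  a : G
  core : PUCore p τ.range M q a

attribute [instance] Node.grp Node.fin

theorem map_centralizer_eq {A B : Type*} [Group A] [Group B] {f : A →* B}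
    (hf : Function.Injective f) (X : Subgroup A) :
    (centralizer (X : Set A)).map f = f.range ⊓ centralizer (X.map f : Set B) := by
  ext y
  constructor
  · rintro ⟨x, hx, rfl⟩
    refine ⟨⟨x, rfl⟩, mem_centralizer_iff.mpr ?_⟩
    rintro _ ⟨z, hz, rfl⟩
    rw [← map_mul, ← map_mul, mem_centralizer_iff.mp hx z hz]
  · rintro ⟨⟨x, rfl⟩, hx⟩
    refine ⟨x, mem_centralizer_iff.mpr fun z hz => hf ?_, rfl⟩
    rw [map_mul, map_mul]
    exact mem_centralizer_iff.mp hx _ ⟨z, hz, rfl⟩

variable {p : ℕ} [Fact p.Prime] {S : Type u} [Group S] [Finite S]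

namespace Node

variable (n : Node p S)

/-- `O_p` of the ambient group, inside `S`. -/
def R : Subgroup S := (pCore p n.G).comap n.τ

/-- `Z(O_p)` of the ambient group, inside `S`. -/
def V : Subgroup S := (zR p n.G).comap n.τ

/-- The conjugate of a subgroup of `S` by an element of the ambient group, inside `S`. -/
def act (g : n.G) (X : Subgroup S) : Subgroup S := (cj g (X.map n.τ)).comap n.τ

/-- The image of `U` is central. -/
def Central (U : Subgroup S) : Prop := U.map n.τ ≤ centralizer ((⊤ : Subgroup n.G) : Set n.G)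

/-- The same embedding after an automorphism of `S`. -/
def twist (φ : MulAut S) : Node p S where
  G := n.G
  τ := n.τ.comp φ.toMonoidHom
  inj := n.inj.comp φ.injective
  sit := by
    rw [MonoidHom.range_comp, show φ.toMonoidHom.range = ⊤ from
      MonoidHom.range_eq_top.mpr φ.surjective, ← MonoidHom.range_eq_map]
    exact n.sit
  M := n.M
  q := n.q
  a := n.a
  core := by
    rw [MonoidHom.range_comp, show φ.toMonoidHom.range = ⊤ from
      MonoidHom.range_eq_top.mpr φ.surjective, ← MonoidHom.range_eq_map]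
    exact n.core

theorem map_top : (⊤ : Subgroup S).map n.τ = n.τ.range := (MonoidHom.range_eq_map n.τ).symm

theorem map_comap {X : Subgroup n.G} (h : X ≤ n.τ.range) : (X.comap n.τ).map n.τ = X := by
  rw [map_comap_eq, inf_eq_right.mpr h]

theorem comap_map (X : Subgroup S) : (X.map n.τ).comap n.τ = X :=
  comap_map_eq_self_of_injective n.inj X

theorem map_le_map {X Y : Subgroup S} : X.map n.τ ≤ Y.map n.τ ↔ X ≤ Y :=
  map_le_map_iff_of_injective n.inj

theorem map_R : n.R.map n.τ = pCore p n.G := n.map_comap n.core.core_le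

theorem map_V : n.V.map n.τ = zR p n.G := n.map_comap n.core.zR_le

theorem map_center : (center S).map n.τ = zS n.τ.range := by
  rw [← centralizer_univ, ← coe_top, map_centralizer_eq n.inj, map_top]
  rfl

theorem map_le_core {X : Subgroup S} : X.map n.τ ≤ pCore p n.G ↔ X ≤ n.R :=
  map_le_iff_le_comap

theorem map_le_range (X : Subgroup S) : X.map n.τ ≤ n.τ.range := Subgroup.map_le_range n.τ X

instance R_normal : n.R.Normal :=
  haveI := pCore_normal p n.G
  Normal.comap inferInstance _

theorem commutator_eq_bot {X Y : Subgroup S} : ⁅X, Y⁆ = ⊥ ↔ ⁅X.map n.τ, Y.map n.τ⁆ = ⊥ := by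
  rw [← map_commutator, map_eq_bot_iff_of_injective _ n.inj]

theorem centralizer_V : centralizer (n.V : Set S) = n.R := by
  apply map_injective n.inj
  rw [map_centralizer_eq n.inj, map_V, map_R]
  exact n.core.core_eq

theorem commutator_V_R : ⁅n.V, n.R⁆ = ⊥ := by
  rw [commutator_comm, commutator_eq_bot_iff_le_centralizer, centralizer_V]

theorem le_R_iff {X : Subgroup S} : X ≤ n.R ↔ ⁅n.V, X⁆ = ⊥ := by
  rw [commutator_comm, commutator_eq_bot_iff_le_centralizer, centralizer_V]

theorem V_le_R : n.V ≤ n.R := fun _ hx => hx.1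

theorem center_le_V : center S ≤ n.V := by
  rw [← n.map_le_map, map_center, map_V]; exact n.core.zS_le

theorem center_le_R : center S ≤ n.R := n.center_le_V.trans n.V_le_R

theorem V_comm : ⁅n.V, n.V⁆ = ⊥ := n.le_R_iff.mp n.V_le_R

theorem V_pow {v : S} (hv : v ∈ n.V) : v ^ p = 1 :=
  n.inj (by rw [map_pow, map_one]; exact n.core.elem.2 _ hv)

theorem quad : ⁅n.V, (⊤ : Subgroup S)⁆ ≤ center S := by
  rw [← n.map_le_map, map_commutator, map_V, map_top, map_center]; exact n.core.quad

theorem fix {x : S} (hx : x ∉ n.R) {Y : Subgroup S} (hY : Y ≤ n.V)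
    (h : ⁅Y, zpowers x⁆ = ⊥) : Y ≤ center S := by
  rw [← n.map_le_map, map_center, ← n.core.fix (n.τ x) ⟨x, rfl⟩ hx]
  refine le_inf ((map_mono hY).trans n.map_V.le) ?_
  have h1 := commutator_eq_bot_iff_le_centralizer.mp (n.commutator_eq_bot.mp h)
  rw [MonoidHom.map_zpowers] at h1
  exact h1.trans (centralizer_le (Set.singleton_subset_iff.mpr (mem_zpowers _)))

/-- A subgroup of `V` centralised by something outside `O_p` is central. -/
theorem fix' {Y X : Subgroup S} (hY : Y ≤ n.V) (hX : ¬ X ≤ n.R) (h : ⁅Y, X⁆ = ⊥) :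
    Y ≤ center S := by
  obtain ⟨x, hx, hxR⟩ := SetLike.not_le_iff_exists.mp hX
  exact n.fix hxR hY (le_bot_iff.mp ((commutator_mono le_rfl (zpowers_le.mpr hx)).trans h.le))

theorem card_R : Nat.card n.R * n.q = Nat.card S := by
  have h := LocalEvenBasic.card_mul_relIndex_of_le (pCore p n.G) n.τ.range n.core.core_le
  rw [n.core.data.index_core, ← map_R, card_map_of_injective n.inj] at h
  rw [h, ← map_top, card_map_of_injective n.inj, card_top]

theorem card_V : Nat.card n.V = n.q * Nat.card (center S) := by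
  have h := n.core.card_zR
  rwa [← map_V, ← map_center, card_map_of_injective n.inj, card_map_of_injective n.inj] at h

theorem one_lt_q : 1 < n.q := n.core.data.one_lt

theorem isPGroup (n : Node p S) : IsPGroup p S :=
  n.core.data.isPGroup.of_equiv (MonoidHom.ofInjective n.inj).symm

/-! ### The action of the ambient group -/

theorem map_act {g : n.G} {X : Subgroup S} (hX : X ≤ n.R) :
    (n.act g X).map n.τ = cj g (X.map n.τ) := by
  haveI := pCore_normal p n.G
  exact n.map_comap (((cj_mono (n.map_le_core.mpr hX)).trans (cj_normal g _).le).trans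
    n.core.core_le)

theorem act_le {g : n.G} {X : Subgroup S} (hX : X ≤ n.R) : n.act g X ≤ n.R := by
  haveI := pCore_normal p n.G
  rw [← n.map_le_core, n.map_act hX]
  exact (cj_mono (n.map_le_core.mpr hX)).trans (cj_normal g _).le

theorem act_V (g : n.G) : n.act g n.V = n.V := by
  rw [act, map_V, cj_normal g (zR p n.G)]; rfl

theorem act_mono {g : n.G} {X Y : Subgroup S} (h : X ≤ Y) : n.act g X ≤ n.act g Y :=
  comap_mono (cj_mono (map_mono h))

theorem act_comm {g : n.G} {X Y : Subgroup S} (h : ⁅X, Y⁆ = ⊥) :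
    ⁅n.act g X, n.act g Y⁆ = ⊥ := by
  rw [n.commutator_eq_bot]
  exact le_bot_iff.mp ((commutator_mono (map_comap_le _ _) (map_comap_le _ _)).trans
    (cj_comm_bot (n.commutator_eq_bot.mp h)).le)

theorem act_act_inv {g : n.G} {X : Subgroup S} (hX : X ≤ n.R) :
    n.act g (n.act g⁻¹ X) = X := by
  rw [act, n.map_act hX, cj_cj_inv, comap_map]

theorem act_inv_act {g : n.G} {X : Subgroup S} (hX : X ≤ n.R) :
    n.act g⁻¹ (n.act g X) = X := by
  rw [act, n.map_act hX, cj_inv_cj, comap_map]

theorem card_act {g : n.G} {X : Subgroup S} (hX : X ≤ n.R) :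
    Nat.card (n.act g X) = Nat.card X := by
  rw [← card_map_of_injective (f := n.τ) n.inj, n.map_act hX, card_cj,
    card_map_of_injective n.inj]

theorem act_inf (g : n.G) (X Y : Subgroup S) :
    n.act g (X ⊓ Y) = n.act g X ⊓ n.act g Y := by
  rw [act, Subgroup.map_inf _ _ _ n.inj, cj_inf, comap_inf]; rfl

theorem act_commutator {g : n.G} {X Y : Subgroup S} (hX : X ≤ n.R) (hY : Y ≤ n.R) :
    n.act g ⁅X, Y⁆ = ⁅n.act g X, n.act g Y⁆ := by
  apply map_injective n.inj
  have h : ⁅X, Y⁆ ≤ n.R := (commutator_mono hX hY).trans (commutator_le_self _)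
  rw [n.map_act h, map_commutator, map_commutator, n.map_act hX, n.map_act hY, cj_commutator]

/-! ### Twisting -/

theorem twist_R (φ : MulAut S) : (n.twist φ).R = n.R.comap φ.toMonoidHom := rfl

theorem twist_V (φ : MulAut S) : (n.twist φ).V = n.V.comap φ.toMonoidHom := rfl

theorem twist_act (φ : MulAut S) (g : n.G) (X : Subgroup S) :
    (n.twist φ).act g X = (n.act g (X.map φ.toMonoidHom)).comap φ.toMonoidHom := by
  show ((cj g (X.map (n.τ.comp φ.toMonoidHom))).comap (n.τ.comp φ.toMonoidHom)) = _
  rw [← Subgroup.map_map, ← comap_comap]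
  rfl

theorem twist_central (φ : MulAut S) {U : Subgroup S} [hU : U.Characteristic] :
    (n.twist φ).Central U ↔ n.Central U := by
  show U.map (n.τ.comp φ.toMonoidHom) ≤ _ ↔ _
  rw [← Subgroup.map_map, characteristic_iff_map_eq.mp hU φ]
  rfl

end Node

end CfsgLib.LocalEven50.Family
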