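import Cfsg.Agent.LocalEven50.Family.Closure
import Cfsg.Agent.LocalEven50.PushingUpCaseI
import Cfsg.Agent.LocalEven50.PushingUpCaseII
import Cfsg.Agent.Solvable.Frattini

/-!
# The subgroup `S₀` and the absence of critical pairs of length one

A node in which `Z(S) ∩ S₀` is not central has no normal subgroup containing `S₀` and meeting
`Z(O_p)` in fixed points only.  In particular no `Z(O_p)` of another such node lies outside its
`O_p`.
-/

set_option linter.style.haveILetI false
set_option linter.unusedSectionVars false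

namespace CfsgLib.LocalEven50.Family

open Subgroup Cfsg CfsgLib.LocalEven50
open scoped commutatorElement

universe u

/-- The Frattini subgroup of a subgroup, inside the group. -/
def phiIn {G : Type*} [Group G] (X : Subgroup G) : Subgroup G := (frattini ↥X).map X.subtype

/-- `[Φ, S] Φ(Φ)`, `[Φ, S, S] Φ(Φ)` or `[Φ, S] ℧₁` as `p` is `2`, `3` or more. -/
noncomputable def puS0 (p : ℕ) (S : Type*) [Group S] : Subgroup S :=
  if p = 2 then ⁅frattini S, (⊤ : Subgroup S)⁆ ⊔ phiIn (frattini S)
  else if p = 3 then ⁅⁅frattini S, (⊤ : Subgroup S)⁆, (⊤ : Subgroup S)⁆ ⊔ phiIn (frattini S)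
  else ⁅frattini S, (⊤ : Subgroup S)⁆ ⊔ powerClosure p 1 (⊤ : Subgroup S)

section Phi

variable {G H : Type*} [Group G] [Group H] {p : ℕ} [Fact p.Prime] [Finite G] {X : Subgroup G}

theorem phiIn_le (X : Subgroup G) : phiIn X ≤ X := map_subtype_le _

theorem commutator_le_phiIn (hX : IsPGroup p X) : ⁅X, X⁆ ≤ phiIn X := by
  rw [commutator_le]
  intro x hx y hy
  exact ⟨⁅⟨x, hx⟩, ⟨y, hy⟩⁆, Solvable.commutator_le_frattini hX
    (commutator_mem_commutator (mem_top _) (mem_top _)), rfl⟩

theorem pow_mem_phiIn (hX : IsPGroup p X) {x : G} (hx : x ∈ X) : x ^ p ∈ phiIn X :=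
  ⟨⟨x, hx⟩ ^ p, Solvable.pow_mem_frattini hX _, rfl⟩

theorem phiIn_le_of (hX : IsPGroup p X) {N : Subgroup G} (hc : ⁅X, X⁆ ≤ N)
    (hp : ∀ x ∈ X, x ^ p ∈ N) : phiIn X ≤ N := by
  refine map_le_iff_le_comap.mpr (Solvable.frattini_le_of_elementary (p := p) ?_ fun x => hp x x.2)
  rw [commutator_def, commutator_le]
  exact fun x _ y _ => hc (commutator_mem_commutator x.2 y.2)

theorem frattini_le_of (hG : IsPGroup p G) {N : Subgroup G}
    (hc : ⁅(⊤ : Subgroup G), (⊤ : Subgroup G)⁆ ≤ N) (hp : ∀ x : G, x ^ p ∈ N) : frattini G ≤ N :=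
  Solvable.frattini_le_of_elementary (p := p) (by rwa [commutator_def]) hp

omit [Finite G] in
theorem map_phiIn {f : G →* H} (hf : Function.Injective f) (X : Subgroup G) :
    (phiIn X).map f = phiIn (X.map f) := by
  have e : (frattini ↥X).map (X.equivMapOfInjective f hf).toMonoidHom = frattini ↥(X.map f) := by
    refine le_antisymm (map_le_iff_le_comap.mpr (frattini_le_comap_frattini_of_surjective
      (X.equivMapOfInjective f hf).surjective)) fun b hb => ?_
    exact ⟨(X.equivMapOfInjective f hf).symm b, frattini_le_comap_frattini_of_surjective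
      (φ := (X.equivMapOfInjective f hf).symm.toMonoidHom)
      (X.equivMapOfInjective f hf).symm.surjective hb, (X.equivMapOfInjective f hf).apply_symm_apply b⟩
  rw [phiIn, phiIn, ← e, Subgroup.map_map, Subgroup.map_map]
  rfl

omit [Finite G] in
theorem phiIn_normal (X : Subgroup G) [X.Normal] : (phiIn X).Normal :=
  ConjAct.normal_of_characteristic_of_normal

theorem puS0_le (hG : IsPGroup p G) {P : Subgroup G}
    (h2 : phiIn (frattini G) ≤ P) (hne3 : p ≠ 3 → ⁅frattini G, (⊤ : Subgroup G)⁆ ≤ P)
    (h3 : p = 3 → ⁅⁅frattini G, (⊤ : Subgroup G)⁆, (⊤ : Subgroup G)⁆ ≤ P)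
    (hpow : 3 < p → ∀ x : G, x ^ p ∈ P) : puS0 p G ≤ P := by
  unfold puS0
  split_ifs with hp2 hp3
  · exact sup_le (hne3 (by omega)) h2
  · exact sup_le (h3 hp3) h2
  · refine sup_le (hne3 hp3) ?_
    rw [powerClosure, closure_le]
    rintro _ ⟨x, -, rfl⟩
    rw [pow_one]
    exact hpow (by have := (Fact.out : p.Prime).two_le; omega) x

end Phi

variable {p : ℕ} [Fact p.Prime] {S : Type u} [Group S] [Finite S]

namespace Node

variable (n : Node p S)

/-- A normal subgroup inside `Z(S)` is fixed. -/
theorem le_zG_of_le_zS {N : Subgroup n.G} [N.Normal] (h : N ≤ zS n.τ.range) : N ≤ zG p n.G := by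
  rw [← n.core.inf_eq]
  exact le_inf h ((cj_normal n.a N).ge.trans (cj_mono h))

/-- A normal subgroup containing `S₀` and meeting `Z(O_p)` in fixed points makes `Z(S) ∩ S₀`
central. -/
theorem central_of_puS0_le {P : Subgroup n.G} (hP : P ⊓ zR p n.G ≤ zG p n.G)
    (h : (puS0 p S).map n.τ ≤ P) : n.Central (center S ⊓ puS0 p S) := by
  refine le_trans ?_ (hP.trans inf_le_right)
  refine le_inf ((map_mono inf_le_right).trans h) ?_
  rw [← n.map_V]
  exact map_mono (inf_le_left.trans n.center_le_V)

/-- If `S = X O_p` with `X` abelian of exponent `p`, `[X, S]` central and `X` centralising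
`Φ(O_p)`, then `Z(S) ∩ S₀` is central. -/
theorem central_of_quadratic {X : Subgroup S} (hsup : X ⊔ n.R = ⊤) (hab : ⁅X, X⁆ = ⊥)
    (hpow : ∀ x ∈ X, x ^ p = 1) (hq : ⁅X, (⊤ : Subgroup S)⁆ ≤ center S) (hXR : ¬ X ≤ n.R)
    (hel : ∀ c ∈ center S, c ^ p = 1) : n.Central (center S ⊓ puS0 p S) := by
  have hS := n.isPGroup
  set F := phiIn n.R with hF
  haveI hFn : F.Normal := phiIn_normal n.R
  have hFR : F ≤ n.R := phiIn_le _
  have hR : IsPGroup p n.R := hS.to_subgroup _
  have hcz : ∀ c ∈ center S, ∀ s : S, Commute c s := fun c hc s => (mem_center_iff.mp hc s).symm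
  have hXF : ⁅F, X⁆ = ⊥ := by
    rw [commutator_eq_bot_iff_le_centralizer]
    refine phiIn_le_of hR ?_ fun r hr => mem_centralizer_iff.mpr fun x hx => ?_
    · refine commutator_eq_bot_iff_le_centralizer.mp
        (commutator_commutator_eq_bot_of_rotate ?_ ?_)
      all_goals
        refine le_bot_iff.mp ((commutator_mono (?_ : _ ≤ center S) le_rfl).trans ?_)
      · exact (commutator_comm _ _).trans_le ((commutator_mono le_rfl le_top).trans hq)
      · exact (commutator_eq_bot_iff_le_centralizer.mpr (center_le_centralizer _)).le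
      · exact (commutator_mono le_rfl le_top).trans hq
      · exact (commutator_eq_bot_iff_le_centralizer.mpr (center_le_centralizer _)).le
    · set c := ⁅x, r⁆ with hc
      have hcC : c ∈ center S := hq (commutator_mem_commutator hx (mem_top r))
      have key : ∀ k : ℕ, x * r ^ k * x⁻¹ = c ^ k * r ^ k := by
        intro k
        induction k with
        | zero => simp
        | succ k ih =>
          rw [pow_succ r, show x * (r ^ k * r) * x⁻¹ = (x * r ^ k * x⁻¹) * (x * r * x⁻¹) by group,
            ih, show x * r * x⁻¹ = c * r by rw [hc, commutatorElement_def]; group,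
            mul_assoc, ← mul_assoc (r ^ k), (hcz c hcC (r ^ k)).symm.eq, pow_succ]
          simp only [mul_assoc]
      have := key p
      rw [hel c hcC, one_mul] at this
      calc x * r ^ p = (x * r ^ p * x⁻¹) * x := by group
        _ = _ := by rw [this]
  have hkey : ∀ s : S, ∃ x ∈ X, ∃ r ∈ n.R, x * r = s := fun s => by
    have hs : s ∈ ((X ⊔ n.R : Subgroup S) : Set S) := hsup.ge (mem_top s)
    rwa [mul_normal X n.R] at hs
  have hFY : F ≤ F ⊔ center S := le_sup_left
  have hΦ : frattini S ≤ F ⊔ center S := by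
    refine frattini_le_of hS ?_ fun s => ?_
    · conv_lhs => rw [← hsup]
      refine commutator_sup_le (commutator_comm X (X ⊔ n.R) ▸ ?_)
        (commutator_comm n.R (X ⊔ n.R) ▸ ?_) <;> refine commutator_sup_le ?_ ?_
      · exact hab.le.trans bot_le
      · exact ((commutator_comm _ _).trans_le ((commutator_mono le_rfl le_top).trans hq)).trans
          le_sup_right
      · exact ((commutator_mono le_rfl le_top).trans hq).trans le_sup_right
      · exact (commutator_le_phiIn hR).trans hFY
    · obtain ⟨x, hx, r, hr, rfl⟩ := hkey s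
      have hc : ⁅r, x⁆ ∈ center S := by
        have := inv_mem (hq (commutator_mem_commutator hx (mem_top r)))
        rwa [commutatorElement_inv] at this
      rw [mul_pow_of_central (c := ⁅r, x⁆) (by simp only [commutatorElement_def]; group)
        (hcz _ hc x) (hcz _ hc r) p, hpow x hx, one_mul]
      exact mul_mem (mem_sup_right (pow_mem hc _)) (mem_sup_left (pow_mem_phiIn hR hr))
  have hΦR : frattini S ≤ n.R := hΦ.trans (sup_le hFR n.center_le_R)
  have hΦF : ⁅frattini S, (⊤ : Subgroup S)⁆ ≤ F := by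
    refine (commutator_mono hΦ le_rfl).trans (commutator_sup_le (commutator_le_left _ _) ?_)
    exact (commutator_eq_bot_iff_le_centralizer.mpr (center_le_centralizer _)).le.trans bot_le
  have hS₀ : puS0 p S ≤ F := by
    refine puS0_le hS ?_ (fun _ => hΦF) (fun _ => ?_) fun hp3 s => ?_
    · refine phiIn_le_of (hS.to_subgroup _) ((commutator_mono hΦR hΦR).trans (commutator_le_phiIn hR))
        fun x hx => pow_mem_phiIn hR (hΦR hx)
    · exact (commutator_mono hΦF le_rfl).trans (commutator_le_left _ _)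
    · obtain ⟨x, hx, r, hr, rfl⟩ := hkey s
      have hc : ⁅r, x⁆ ∈ center S := by
        have := inv_mem (hq (commutator_mem_commutator hx (mem_top r)))
        rwa [commutatorElement_inv] at this
      obtain ⟨j, hj⟩ := (Fact.out : p.Prime).dvd_choose_self two_ne_zero (by omega)
      rw [mul_pow_of_central (c := ⁅r, x⁆) (by simp only [commutatorElement_def]; group)
        (hcz _ hc x) (hcz _ hc r) p, hpow x hx, one_mul, hj, pow_mul, hel _ hc, one_pow, one_mul]
      exact pow_mem_phiIn hR hr
  haveI := pCore_normal p n.G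
  haveI : (F.map n.τ).Normal := by
    rw [hF, map_phiIn n.inj, n.map_R]
    exact phiIn_normal _
  refine n.central_of_puS0_le (P := F.map n.τ) ?_ (map_mono hS₀)
  refine n.le_zG_of_le_zS ?_
  rw [← n.map_V, ← Subgroup.map_inf _ _ _ n.inj, ← n.map_center, n.map_le_map]
  exact n.fix' inf_le_right hXR (le_bot_iff.mp ((commutator_mono inf_le_left le_rfl).trans hXF.le))

/-- Two nodes with `Z(S) ∩ S₀` noncentral have commuting `Z(O_p)`. -/
theorem V_le_R_of_bad {m : Node p S} (hn : ¬ n.Central (center S ⊓ puS0 p S))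
    (hm : ¬ m.Central (center S ⊓ puS0 p S)) (hel : ∀ c ∈ center S, c ^ p = 1) : m.V ≤ n.R := by
  by_contra hne
  have hne' : ¬ n.V ≤ m.R := fun h => hne (n.le_R_iff.mpr (by
    rw [commutator_comm]; exact m.le_R_iff.mp h))
  have step : ∀ a b : Node p S, ¬ a.V ≤ b.R → ¬ b.V ≤ a.R →
      a.q ≤ b.q ∧ (a.q = b.q → a.V ⊔ b.R = ⊤) := by
    intro a b hab hba
    have h1 : a.V ⊓ b.R ≤ center S := a.fix' inf_le_left hba (by
      rw [commutator_comm]
      exact le_bot_iff.mp ((commutator_mono le_rfl inf_le_right).trans b.commutator_V_R.le))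
    have h2 := card_sup_mul_card_inf_of_coe a.V b.R (mul_normal a.V b.R)
    have h3 := card_le_of_le h1
    have h4 : Nat.card ↥(a.V ⊔ b.R) * Nat.card ↥(a.V ⊓ b.R) ≤
        Nat.card ↥(a.V ⊔ b.R) * Nat.card (center S) := Nat.mul_le_mul_left _ h3
    rw [h2, a.card_V] at h4
    have h5 : a.q * Nat.card b.R ≤ Nat.card ↥(a.V ⊔ b.R) :=
      Nat.le_of_mul_le_mul_right (by calc
        a.q * Nat.card b.R * Nat.card (center S) = a.q * Nat.card (center S) * Nat.card b.R := by ring
        _ ≤ _ := h4) Nat.card_pos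
    have h6 : Nat.card ↥(a.V ⊔ b.R) ≤ Nat.card S := card_le_card_group (a.V ⊔ b.R)
    have hq : a.q ≤ b.q := by
      refine Nat.le_of_mul_le_mul_right ?_ (Nat.card_pos (α := ↥b.R))
      rw [mul_comm b.q, b.card_R]
      exact h5.trans h6
    refine ⟨hq, fun e => (eq_of_le_of_card_ge le_top ?_)⟩
    rw [card_top, ← b.card_R, mul_comm, ← e]
    exact h5
  have hq := le_antisymm (step m n hne hne').1 (step n m hne' hne).1
  exact hn (n.central_of_quadratic ((step m n hne hne').2 hq) m.V_comm (fun x hx => m.V_pow hx)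
    m.quad hne hel)

end Node

end CfsgLib.LocalEven50.Family
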