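import Cfsg.Agent.LocalEven50.Family.Main
import Cfsg.Agent.LocalEven50.GoodMCL
import Cfsg.Agent.S2990
import Cfsg.Agent.Solvable.Nilpotent

/-!
# A pair of characteristic subgroups for all pushing-up situations over `S`

Either `Z(J(S))` is not central, or `Z(S)` is not elementary, or the minimal centrally large
subgroups are not abelian, or `Z(S) ∩ S₀ ≠ 1`: each gives a pair.  What is left over is the
exceptional class.
-/

set_option linter.style.haveILetI false
set_option linter.unusedSectionVars false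

namespace CfsgLib.LocalEven50.Family

open Subgroup Cfsg CfsgLib.LocalEven50
open scoped commutatorElement Pointwise

universe u

/-! ### Transport along isomorphisms -/

section Transport

variable {A B : Type*} [Group A] [Group B] {e : A ≃* B}

theorem map_symm_map (e : A ≃* B) (X : Subgroup B) :
    (X.map e.symm.toMonoidHom).map e.toMonoidHom = X := by
  rw [Subgroup.map_map]
  ext x
  simp

theorem centrallyLarge_map (e : A ≃* B) {X : Subgroup A} (h : IsCentrallyLarge X) :
    IsCentrallyLarge (X.map e.toMonoidHom) := by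
  have i := X.equivMapOfInjective e.toMonoidHom e.injective
  show _ = _
  rw [← Nat.card_congr i.toEquiv, ← Nat.card_congr (Subgroup.centerCongr i).toEquiv,
    ← maxCentralProduct_congr e]
  exact h

theorem minimalCentrallyLarge_map (e : A ≃* B) {X : Subgroup A} (h : IsMinimalCentrallyLarge X) :
    IsMinimalCentrallyLarge (X.map e.toMonoidHom) := by
  refine ⟨centrallyLarge_map e h.1, fun R hR hRc => ?_⟩
  have h1 : R.map e.symm.toMonoidHom ≤ X := by
    refine map_le_iff_le_comap.mpr fun x hx => ?_
    obtain ⟨a, ha, rfl⟩ := hR hx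
    simpa using ha
  rw [← map_symm_map e R, h.2 _ h1 (centrallyLarge_map e.symm hRc)]

theorem minimalCentrallyLargeJoin_map (e : A ≃* B) :
    (minimalCentrallyLargeJoin A).map e.toMonoidHom = minimalCentrallyLargeJoin B := by
  refine le_antisymm (map_le_iff_le_comap.mpr (sSup_le fun X hX => map_le_iff_le_comap.mp
    (le_sSup (minimalCentrallyLarge_map e hX)))) (sSup_le fun Y hY => ?_)
  rw [← map_symm_map e Y]
  exact map_mono (le_sSup (minimalCentrallyLarge_map e.symm hY))

theorem map_omegaOneCenter_of_injective {p : ℕ} {f : A →* B} (hf : Function.Injective f)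
    (X : Subgroup A) : (omegaOneCenter p X).map f = omegaOneCenter p (X.map f) := by
  unfold omegaOneCenter
  rw [PLocal.map_omegaOne hf, PLocal.map_inf_centralizer hf]

theorem card_omegaOneCenter_map {p : ℕ} (e : A ≃* B) (X : Subgroup A) :
    Nat.card ↥(omegaOneCenter p (X.map e.toMonoidHom)) = Nat.card ↥(omegaOneCenter p X) := by
  rw [← map_omegaOneCenter_of_injective e.injective, card_map_of_injective e.injective]

variable [Finite A] [Finite B]

theorem maxOmegaCenterOfMinimalCL_congr {p : ℕ} (e : A ≃* B) :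
    maxOmegaCenterOfMinimalCL p A = maxOmegaCenterOfMinimalCL p B := by
  refine le_antisymm ?_ ?_
  · obtain ⟨Q, hQ, hQc⟩ := exists_maxOmega (P := A) p
    rw [← hQc, ← card_omegaOneCenter_map e]
    exact le_maxOmegaCenterOfMinimalCL (minimalCentrallyLarge_map e hQ)
  · obtain ⟨Q, hQ, hQc⟩ := exists_maxOmega (P := B) p
    rw [← hQc, ← card_omegaOneCenter_map e.symm]
    exact le_maxOmegaCenterOfMinimalCL (minimalCentrallyLarge_map e.symm hQ)

theorem frattiniOfMinimalCLJoin_map {p : ℕ} [Fact p.Prime] (e : A ≃* B) :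
    (frattiniOfMinimalCLJoin p A).map e.toMonoidHom = frattiniOfMinimalCLJoin p B := by
  refine le_antisymm ?_ ?_
  · rw [frattiniOfMinimalCLJoin, Subgroup.map_iSup]
    refine iSup_le fun Q => le_iSup_of_le ⟨Q.1.map e.toMonoidHom, minimalCentrallyLarge_map e Q.2.1,
      by rw [card_omegaOneCenter_map, Q.2.2, maxOmegaCenterOfMinimalCL_congr e]⟩ (le_of_eq ?_)
    exact map_phiIn e.injective Q.1
  · refine iSup_le fun Q => ?_
    have h : Q.1.map e.symm.toMonoidHom ∈ {X : Subgroup A | IsMinimalCentrallyLarge X ∧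
        Nat.card ↥(omegaOneCenter p X) = maxOmegaCenterOfMinimalCL p A} :=
      ⟨minimalCentrallyLarge_map e.symm Q.2.1,
        by rw [card_omegaOneCenter_map, Q.2.2, maxOmegaCenterOfMinimalCL_congr e]⟩
    calc (frattini ↥(Q : Subgroup B)).map (Q : Subgroup B).subtype
        = (phiIn (Q.1.map e.symm.toMonoidHom)).map e.toMonoidHom := by
          rw [map_phiIn e.injective, map_symm_map]; rfl
      _ ≤ _ := map_mono (le_iSup (fun X : {X : Subgroup A // IsMinimalCentrallyLarge X ∧
            Nat.card ↥(omegaOneCenter p X) = maxOmegaCenterOfMinimalCL p A} =>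
          (frattini ↥(X : Subgroup A)).map (X : Subgroup A).subtype) ⟨_, h⟩)

end Transport

variable {p : ℕ} [Fact p.Prime] {S : Type u} [Group S] [Finite S]

/-- `J̃(S) = C(Z(J(S)))`. -/
abbrev jTilde (S : Type u) [Group S] : Subgroup S :=
  centralizer ((thompsonSubgroupA S ⊓ centralizer (thompsonSubgroupA S : Set S) : Subgroup S) : Set S)

/-- One of the two subgroups is normal in every pushing-up situation over `S`. -/
def Splits (p : ℕ) (S₁ S₂ : Subgroup S) : Prop :=
  ∀ (G : Type u) [Group G] [Finite G] (τ : S →* G), Function.Injective τ →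
    IsPushingUpSituation p τ.range → (S₁.map τ).Normal ∨ (S₂.map τ).Normal

/-- The conclusion of the pushing-up theorems. -/
def GoodPair (p : ℕ) (S : Type u) [Group S] [Finite S] : Prop :=
  ∃ S₁ S₂ : Subgroup S, S₁ ≠ ⊥ ∧ S₂ ≠ ⊥ ∧ S₁.Characteristic ∧ S₂.Characteristic ∧
    S₁ ≤ center S ∧ S₂ ≤ jTilde S ∧ (S₂.subgroupOf (jTilde S)).Characteristic ∧
    maxCentralProduct ↥S₂ = maxCentralProduct ↥(jTilde S) ∧ Splits p S₁ S₂

theorem map_center_eq {G : Type*} [Group G] {τ : S →* G} (hτ : Function.Injective τ) :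
    (center S).map τ = zS τ.range := by
  rw [← centralizer_univ, ← coe_top, map_centralizer_eq hτ, ← MonoidHom.range_eq_map]
  rfl

theorem map_thompson_eq {G : Type*} [Group G] {τ : S →* G} (hτ : Function.Injective τ) :
    (thompsonSubgroupA S).map τ = thompsonSubgroupAOf τ.range := by
  rw [MonoidHom.range_eq_map, ← PLocal.map_thompsonSubgroupAOf hτ, PLocal.thompsonSubgroupAOf_top]

theorem map_centerThompson_eq {G : Type*} [Group G] {τ : S →* G} (hτ : Function.Injective τ) :
    (thompsonSubgroupA S ⊓ centralizer (thompsonSubgroupA S : Set S)).map τ =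
      centerThompsonAOf τ.range := by
  rw [PLocal.map_inf_centralizer hτ, map_thompson_eq hτ]
  rfl

theorem map_jTilde_eq {G : Type*} [Group G] {τ : S →* G} (hτ : Function.Injective τ) :
    (jTilde S).map τ = τ.range ⊓ centralizer (centerThompsonAOf τ.range : Set G) := by
  rw [map_centralizer_eq hτ, map_centerThompson_eq hτ]

theorem normal_of_le_center {G : Type*} [Group G] {τ : S →* G} (hτ : Function.Injective τ)
    {X : Subgroup S} (hX : X ≤ center S)
    (h : zS τ.range ≤ centralizer ((⊤ : Subgroup G) : Set G)) : (X.map τ).Normal :=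
  normal_of_central (((map_mono hX).trans (map_center_eq hτ).le).trans h)

theorem range_normal_of_le_core {G : Type*} [Group G] [Finite G] {τ : S →* G}
    (hE : IsPushingUpSituation p τ.range) (h : τ.range ≤ pCore p G) : False := by
  obtain ⟨M, q, g, D⟩ := pushUpData hE
  exact D.one_lt.ne' (D.index_core ▸ relIndex_eq_one.mpr h)

theorem subgroupOf_characteristic_of_eq_top {T : Subgroup S} (hT : T = ⊤) (X : Subgroup S)
    [X.Characteristic] : (X.subgroupOf T).Characteristic := by
  subst hT
  refine characteristic_iff_comap_eq.mpr fun φ => ?_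
  have h := characteristic_iff_comap_eq.mp (inferInstance : X.Characteristic)
    ((topEquiv.symm.trans φ).trans topEquiv)
  ext x
  exact SetLike.ext_iff.mp h (x : S)

theorem jTilde_eq_top (hJ : ⁅thompsonSubgroupA S ⊓ centralizer (thompsonSubgroupA S : Set S),
    (⊤ : Subgroup S)⁆ = ⊥) : jTilde S = ⊤ :=
  top_le_iff.mp (le_centralizer_iff.mp (commutator_eq_bot_iff_le_centralizer.mp hJ))

/-- With `J̃(S) = S`, a characteristic pair with a centrally large second member is good. -/
theorem goodPair_of_top (hJ : jTilde S = ⊤) {S₁ S₂ : Subgroup S} (h1 : S₁ ≠ ⊥) (h2 : S₂ ≠ ⊥)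
    (c1 : S₁.Characteristic) (c2 : S₂.Characteristic) (hc : S₁ ≤ center S)
    (hl : IsCentrallyLarge S₂) (hs : Splits p S₁ S₂) : GoodPair p S := by
  haveI := c2
  refine ⟨S₁, S₂, h1, h2, c1, c2, hc, le_top.trans hJ.ge, subgroupOf_characteristic_of_eq_top hJ S₂,
    ?_, hs⟩
  rw [hJ, maxCentralProduct_eq_of_large hl, maxCentralProduct_congr topEquiv]

theorem centerThompson_characteristic :
    (thompsonSubgroupA S ⊓ centralizer (thompsonSubgroupA S : Set S)).Characteristic := by
  haveI : (thompsonSubgroupA S).Characteristic := by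
    refine characteristic_iff_map_eq.mpr fun φ => ?_
    rw [map_thompson_eq φ.injective, MonoidHom.range_eq_top.mpr φ.surjective,
      PLocal.thompsonSubgroupAOf_top]
  infer_instance

/-- `Z(J(S))` not central: `Z(S) ∩ [Z(J(S)), S]` and `J̃(S)`. -/
theorem goodPair_of_centerThompson (hS : IsPGroup p S)
    (h : ⁅thompsonSubgroupA S ⊓ centralizer (thompsonSubgroupA S : Set S), (⊤ : Subgroup S)⁆ ≠ ⊥) :
    GoodPair p S := by
  haveI := hS.isNilpotent
  set Y := thompsonSubgroupA S ⊓ centralizer (thompsonSubgroupA S : Set S) with hY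
  haveI hYc : Y.Characteristic := centerThompson_characteristic
  have hYj : Y ≤ jTilde S := inf_le_right.trans (centralizer_le inf_le_left)
  refine ⟨⁅Y, (⊤ : Subgroup S)⁆ ⊓ center S, jTilde S, CfsgLib.Solvable.inf_center_ne_bot h,
    fun hb => h ?_, inferInstance, inferInstance, inf_le_right, le_rfl, ?_, rfl, ?_⟩
  · rw [le_bot_iff.mp (hYj.trans hb.le)]
    exact commutator_bot_left _
  · rw [subgroupOf_self]; infer_instance
  intro G _ _ τ hτ hE
  set P := τ.range with hP
  by_cases hnc : zS P ≤ centralizer ((⊤ : Subgroup G) : Set G)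
  · exact Or.inl (normal_of_le_center hτ inf_le_right hnc)
  obtain ⟨M, q, g, D⟩ := pushUpData hE
  by_cases hJ : thompsonSubgroupAOf P ≤ pCore p G
  · exact Or.inr (map_jTilde_eq hτ ▸ normal_of_thompson_le D hnc hJ)
  left
  obtain ⟨W, T⟩ := exists_thompsonData hE D hnc hJ
  refine normal_of_central ?_
  set L := thompsonSubgroupAOf P ⊔ (thompsonSubgroupAOf P).map (MulAut.conj g).toMonoidHom
  have hPW : P ≤ normalizer (W : Set G) := by
    conv_lhs => rw [← T.sup_core]
    exact sup_le ((le_sup_left.trans T.centralizes).trans (centralizer_le_normalizer _))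
      T.core_normalizes
  have hcP : zS P ≤ normalizer (W : Set G) := inf_le_left.trans hPW
  have hYW : ⁅centerThompsonAOf P, P⁆ ≤ W := by
    rw [T.eq_sup]
    refine commutator_le.mpr fun x hx s hs => ?_
    rw [← SetLike.mem_coe, coe_mul_of_right_le_normalizer_left W (P ⊓ centralizer (P : Set G)) hcP]
      at hx
    obtain ⟨w, hw, c, hc, rfl⟩ := hx
    have hcs : c * s = s * c := (mem_centralizer_iff.mp hc.2 s hs).symm
    have e : ⁅w * c, s⁆ = w * (s * w⁻¹ * s⁻¹) := by
      rw [commutatorElement_def, mul_assoc w c s, hcs]; group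
    rw [e]
    exact mul_mem hw ((mem_normalizer_iff.mp (hPW hs) _).mp (inv_mem hw))
  have hle : (⁅Y, (⊤ : Subgroup S)⁆ ⊓ center S).map τ ≤ zS P ⊓ W := by
    refine le_inf ((map_mono inf_le_right).trans (map_center_eq hτ).le) ?_
    refine (map_mono inf_le_left).trans ?_
    rw [map_commutator, hY, map_centerThompson_eq hτ, ← MonoidHom.range_eq_map]
    exact hYW
  have htop : L ⊔ P = ⊤ := by
    by_contra hne
    refine hJ ((le_inf (le_sup_left : thompsonSubgroupAOf P ≤ L)
      (PLocal.thompsonSubgroupAOf_le P)).trans ?_)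
    exact D.normal_inf L T.normal (le_sup_left.trans (D.unique _ hne le_sup_right))
  refine hle.trans ?_
  rw [← htop, le_centralizer_iff, sup_le_iff]
  exact ⟨T.centralizes.trans (centralizer_le inf_le_right),
    (le_centralizer_iff.mp inf_le_right).trans (centralizer_le inf_le_left)⟩

theorem centerPow_characteristic : (powerClosure p 1 (center S)).Characteristic := by
  refine characteristic_iff_map_le.mpr fun φ => ?_
  rw [powerClosure, MonoidHom.map_closure]
  refine closure_mono ?_
  rintro _ ⟨_, ⟨x, hx, rfl⟩, rfl⟩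
  exact ⟨φ x, (characteristic_iff_map_eq.mp (inferInstance : (center S).Characteristic) φ).le
    (mem_map_of_mem φ.toMonoidHom hx), map_pow φ.toMonoidHom x _⟩

/-- `Z(S)` not elementary: its `p`-th powers and `S`. -/
theorem goodPair_of_not_elementary [Nontrivial S] (hJ : jTilde S = ⊤)
    (htop : IsCentrallyLarge (⊤ : Subgroup S)) (hz : ¬ ∀ c ∈ center S, c ^ p = 1) :
    GoodPair p S := by
  refine goodPair_of_top hJ (S₁ := powerClosure p 1 (center S)) ?_ top_ne_bot
    centerPow_characteristic inferInstance ?_ htop ?_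
  · push Not at hz
    obtain ⟨c, hc, hne⟩ := hz
    intro hb
    exact hne (mem_bot.mp (hb.le (subset_closure ⟨c, hc, (pow_one p).symm ▸ rfl⟩)))
  · rw [powerClosure, closure_le]
    rintro _ ⟨c, hc, rfl⟩
    exact pow_mem hc _
  intro G _ _ τ hτ hE
  by_cases hnc : zS τ.range ≤ centralizer ((⊤ : Subgroup G) : Set G)
  · refine Or.inl (normal_of_le_center hτ ?_ hnc)
    rw [powerClosure, closure_le]
    rintro _ ⟨c, hc, rfl⟩
    exact pow_mem hc _
  obtain ⟨M, q, g, D⟩ := pushUpData hE
  by_cases hJR : thompsonSubgroupAOf τ.range ≤ pCore p G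
  · right
    rw [← hJ, map_jTilde_eq hτ]
    exact normal_of_thompson_le D hnc hJR
  obtain ⟨hcen, -⟩ := exists_puCore hE hnc hJR
  refine Or.inl (normal_of_central ?_)
  rw [powerClosure, map_le_iff_le_comap, closure_le]
  rintro _ ⟨c, hc, rfl⟩
  show τ (c ^ p ^ 1) ∈ centralizer ((⊤ : Subgroup G) : Set G)
  rw [pow_one, map_pow]
  exact hcen _ ((map_center_eq hτ).le (mem_map_of_mem τ hc))

/-- `J(S) = S`, `Z(S)` elementary and `Z(S) ∩ S₀ ≠ 1`. -/
theorem goodPair_of_puS0 [Nontrivial S] (hJ : thompsonSubgroupA S = ⊤)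
    (hel : ∀ c ∈ center S, c ^ p = 1) (hne : center S ⊓ puS0 p S ≠ ⊥) : GoodPair p S := by
  obtain ⟨U, T, hU, hUc, hUZ, hTc, hTZ, hTl, hall⟩ := exists_pair hJ hel hne
  have hTne : T ≠ ⊥ := fun hb => hU (le_bot_iff.mp (hUZ.trans (hTZ.trans hb.le)))
  have hjt : jTilde S = ⊤ := by
    refine jTilde_eq_top (commutator_eq_bot_iff_le_centralizer.mpr ?_)
    rw [hJ]
    exact inf_le_right
  refine goodPair_of_top hjt hU hTne hUc hTc hUZ hTl fun G _ _ τ hτ hE => ?_
  by_cases hnc : zS τ.range ≤ centralizer ((⊤ : Subgroup G) : Set G)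
  · exact Or.inl (normal_of_le_center hτ hUZ hnc)
  have hJR : ¬ thompsonSubgroupAOf τ.range ≤ pCore p G := by
    rw [← map_thompson_eq hτ, hJ, ← MonoidHom.range_eq_map]
    exact range_normal_of_le_core hE
  obtain ⟨-, hcore⟩ := exists_puCore hE hnc hJR
  obtain ⟨M, q, a, B⟩ := hcore fun c hc => by
    obtain ⟨x, hx, rfl⟩ := (map_center_eq hτ).ge hc
    rw [← map_pow, hel x hx, map_one]
  exact (hall ⟨G, τ, hτ, hE, M, q, a, B⟩).imp normal_of_central id

/-- The class left over. -/
structure Exceptional (p : ℕ) (S : Type u) [Group S] [Finite S] : Prop where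
  noncomm : ¬ IsMulCommutative S
  thompson : thompsonSubgroupA S = ⊤
  center_pow : ∀ c ∈ center S, c ^ p = 1
  nuc : puS0 p S = ⊥
  minimal_iff : ∀ R : Subgroup S, IsMinimalCentrallyLarge R ↔ R ∈ maxAbelianSubgroups S

theorem pair_or_exceptional (hS : IsPGroup p S) [Nontrivial S] :
    GoodPair p S ∨ Exceptional p S := by
  haveI := hS.isNilpotent
  by_cases hA : ⁅thompsonSubgroupA S ⊓ centralizer (thompsonSubgroupA S : Set S),
      (⊤ : Subgroup S)⁆ ≠ ⊥
  · exact Or.inl (goodPair_of_centerThompson hS hA)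
  rw [not_not] at hA
  have hjt := jTilde_eq_top hA
  have htop : IsCentrallyLarge (⊤ : Subgroup S) := by
    obtain ⟨Q, hQ⟩ := exists_isCentrallyLarge (G := S)
    refine top_le_iff.mp (le_trans ?_ (centralizer_center_thompsonSubgroupA_le hQ)) ▸
      centrallyLarge_sup_thompsonSubgroupA hQ
    exact hjt.ge
  by_cases hab : IsMulCommutative S
  · have hZ : center S = ⊤ := eq_top_iff.mpr fun x _ =>
      mem_center_iff.mpr fun y => hab.is_comm.comm y x
    refine Or.inl (goodPair_of_top hjt (S₁ := ⊤) top_ne_bot top_ne_bot inferInstance inferInstance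
      hZ.ge htop fun G _ _ τ hτ hE => Or.inl ?_)
    rw [← MonoidHom.range_eq_map]
    obtain ⟨M, q, g, D⟩ := pushUpData hE
    refine (range_normal_of_le_core hE (le_trans ?_ D.cpSelf)).elim
    refine le_trans ?_ (centralizer_le D.core_le)
    rintro _ ⟨x, rfl⟩
    refine mem_centralizer_iff.mpr ?_
    rintro _ ⟨y, rfl⟩
    rw [← map_mul, ← map_mul, hab.is_comm.comm]
  by_cases hel : ∀ c ∈ center S, c ^ p = 1
  swap
  · exact Or.inl (goodPair_of_not_elementary hjt htop hel)
  obtain ⟨R, hR⟩ := exists_isCentrallyLarge (G := S)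
  obtain ⟨Q, -, hQ⟩ := exists_minimalCentrallyLarge_le hR
  have hQchar : (⁅Q, Q⁆).Characteristic := characteristic_iff_map_eq.mpr fun φ => by
    rw [map_commutator]
    exact (commutator_eq_of_minimalCentrallyLarge hQ (minimalCentrallyLarge_map φ hQ)).symm
  by_cases hQab : ⁅Q, Q⁆ = ⊥
  swap
  · haveI := hQchar
    refine Or.inl (goodPair_of_top hjt (S₁ := ⁅Q, Q⁆ ⊓ center S)
      (S₂ := minimalCentrallyLargeJoin S) (CfsgLib.Solvable.inf_center_ne_bot hQab) ?_ inferInstance
      (characteristic_iff_map_eq.mpr fun φ => minimalCentrallyLargeJoin_map φ) inf_le_right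
      centrallyLarge_minimalCentrallyLargeJoin ?_)
    · intro hb
      have hQb : Q = ⊥ := le_bot_iff.mp ((le_sSup (a := Q) (s := {R : Subgroup S | IsMinimalCentrallyLarge R}) hQ).trans hb.le)
      exact hQab (by rw [hQb]; exact commutator_bot_left _)
    intro G _ _ τ hτ hE
    let e : S ≃* ↥τ.range := MonoidHom.ofInjective hτ
    have he : τ = τ.range.subtype.comp e.toMonoidHom := MonoidHom.ext fun x => rfl
    have hJ' : τ.range ≤ centralizer (centerThompsonAOf τ.range : Set G) := by
      have := map_jTilde_eq hτ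
      rw [hjt, ← MonoidHom.range_eq_map] at this
      exact this.le.trans inf_le_right
    have h := (Cfsg.Agent.S2990.result τ.range hE hJ' _ (minimalCentrallyLarge_map e hQ)).2.1
    refine h.imp (fun h1 => ?_) fun h2 => ?_
    · have e1 : (⁅Q, Q⁆ ⊓ center S).map τ = (τ.range ⊓ centralizer (τ.range : Set G)) ⊓
          (⁅Q.map e.toMonoidHom, Q.map e.toMonoidHom⁆).map τ.range.subtype := by
        rw [Subgroup.map_inf _ _ _ hτ, map_center_eq hτ, inf_comm, ← map_commutator,
          Subgroup.map_map, ← he]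
        rfl
      rwa [e1]
    · rw [← minimalCentrallyLargeJoin_map e, Subgroup.map_map, ← he] at h2
      exact h2
  have hiff := (Cfsg.Agent.S3007.result (p := p) S hS Q Q hQ hQ).2.2.2.2
    (le_centralizer_iff_isMulCommutative.mp (commutator_eq_bot_iff_le_centralizer.mp hQab))
  have hJ : thompsonSubgroupA S = ⊤ := by
    have e : thompsonSubgroupA S = minimalCentrallyLargeJoin S := by
      unfold thompsonSubgroupA minimalCentrallyLargeJoin
      congr 1
      ext X
      exact (hiff X).symm
    have hl := isCentrallyLarge_iff.mp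
      (e ▸ centrallyLarge_minimalCentrallyLargeJoin : IsCentrallyLarge (thompsonSubgroupA S))
    rw [← (large_centralizer hl.1).2]
    refine top_le_iff.mp (le_centralizer_iff.mp ?_)
    refine le_trans ?_ (commutator_eq_bot_iff_le_centralizer.mp hA)
    exact le_inf hl.2 le_rfl
  by_cases hnuc : puS0 p S = ⊥
  · exact Or.inr ⟨hab, hJ, hel, hnuc, hiff⟩
  refine Or.inl (goodPair_of_puS0 hJ hel ?_)
  rw [inf_comm]
  exact CfsgLib.Solvable.inf_center_ne_bot hnuc

namespace Exceptional

variable (E : Exceptional p S)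
include E

theorem elementary_center : IsElementaryAbelian p (center S) :=
  ⟨inferInstance, E.center_pow⟩

theorem commutator_centerThompson :
    ⁅thompsonSubgroupA S ⊓ centralizer (thompsonSubgroupA S : Set S), (⊤ : Subgroup S)⁆ = ⊥ := by
  rw [E.thompson]
  exact commutator_eq_bot_iff_le_centralizer.mpr inf_le_right

theorem lattice (A : Subgroup S) (hA : A ∈ maxAbelianSubgroups S) (B : Subgroup S)
    (hB : B ∈ maxAbelianSubgroups S) (Q : Subgroup S) :
    Nat.card ↥A ^ 2 = Nat.card S * Nat.card ↥(center S) ∧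
      Nat.card ↥Q * Nat.card ↥(center ↥Q) ≤ Nat.card S * Nat.card ↥(center S) ∧
      ((A ⊔ B : Subgroup S) : Set S) = (A : Set S) * (B : Set S) ∧
      A ⊔ B = centralizer ((A ⊓ B : Subgroup S) : Set S) := by
  have htop : maxCentralProduct S = Nat.card S * Nat.card ↥(center S) := by
    have h : _ = _ := isCentrallyLarge_top_of_thompson E.thompson
    rw [card_top, Nat.card_congr (Subgroup.centerCongr (topEquiv (G := S))).toEquiv] at h
    exact h.symm
  have hAl := ((E.minimal_iff A).mpr hA).1
  have hBl := ((E.minimal_iff B).mpr hB).1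
  have hA2 : Nat.card A * Nat.card (center ↥A) = maxCentralProduct S := hAl
  rw [card_center_subgroup, centralizer_maxAbelian hA, inf_idem, ← sq, htop] at hA2
  obtain ⟨h1, -, -, -, h5⟩ :=
    large_sup_inf (isCentrallyLarge_iff.mp hAl).1 (isCentrallyLarge_iff.mp hBl).1
  rw [centralizer_maxAbelian hA, centralizer_maxAbelian hB] at h5
  exact ⟨hA2, htop ▸ le_maxCentralProduct Q, h1, h5.symm⟩

theorem frattini_elementary (hS : IsPGroup p S) : IsElementaryAbelian p (frattini S) := by
  have hn := E.nuc
  unfold puS0 at hn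
  have hΦp : IsPGroup p ↥(frattini S) := hS.to_subgroup _
  by_cases h2 : p = 2 ∨ p = 3
  · have hphi : phiIn (frattini S) = ⊥ := by
      rcases h2 with h | h
      · rw [if_pos h, sup_eq_bot_iff] at hn
        exact hn.2
      · rw [if_neg (by omega), if_pos h, sup_eq_bot_iff] at hn
        exact hn.2
    refine ⟨le_centralizer_iff_isMulCommutative.mp (commutator_eq_bot_iff_le_centralizer.mp
      (le_bot_iff.mp ((commutator_le_phiIn hΦp).trans hphi.le))), fun x hx => ?_⟩
    exact mem_bot.mp (hphi.le (pow_mem_phiIn hΦp hx))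
  · push Not at h2
    rw [if_neg h2.1, if_neg h2.2, sup_eq_bot_iff] at hn
    have hc : frattini S ≤ center S := by
      rw [← centralizer_univ, ← coe_top]
      exact commutator_eq_bot_iff_le_centralizer.mp hn.1
    exact PLocal.isElementaryAbelian_of_le E.elementary_center hc

theorem two (h2 : p = 2) : frattini S ≤ center S := by
  have hn := E.nuc
  rw [puS0, if_pos h2, sup_eq_bot_iff] at hn
  rw [← centralizer_univ, ← coe_top]
  exact commutator_eq_bot_iff_le_centralizer.mp hn.1

theorem three (h3 : p = 3) : frattini S ≤ Subgroup.upperCentralSeries S 2 := by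
  have hn := E.nuc
  rw [puS0, if_neg (by omega), if_pos h3, sup_eq_bot_iff] at hn
  intro x hx
  refine Subgroup.mem_upperCentralSeries_succ_iff.mpr fun y => ?_
  rw [Subgroup.upperCentralSeries_one, ← centralizer_univ, ← coe_top]
  exact commutator_eq_bot_iff_le_centralizer.mp hn.1 (commutator_mem_commutator hx (mem_top y))

theorem large [Nontrivial S] (hp : 3 < p) :
    frattini S ≤ center S ∧ Monoid.exponent S = p := by
  have hn := E.nuc
  rw [puS0, if_neg (by omega), if_neg (by omega), sup_eq_bot_iff] at hn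
  refine ⟨?_, ?_⟩
  · rw [← centralizer_univ, ← coe_top]
    exact commutator_eq_bot_iff_le_centralizer.mp hn.1
  · refine ((Nat.dvd_prime (Fact.out : p.Prime)).mp (Monoid.exponent_dvd_of_forall_pow_eq_one
      fun x => ?_)).resolve_left fun h1 => ?_
    · exact mem_bot.mp (hn.2.le (subset_closure ⟨x, mem_top x, by rw [pow_one]⟩))
    · exact not_subsingleton S (Monoid.exp_eq_one_iff.mp h1)

end Exceptional

end CfsgLib.LocalEven50.Family
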