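import Cfsg.Agent.LocalEven50.Family.Nuc

/-!
# `S₀` lies in a small normal subgroup

If `R ≤ S` contains `S'` and the `p`-th powers, `R/K` is elementary abelian and `[S', S] ≤ Z(S) K`
(`≤ K` for `p ≠ 3`), then `S₀ ≤ K`.
-/

set_option linter.style.haveILetI false
set_option linter.unusedSectionVars false

namespace CfsgLib.LocalEven50.Family

open Subgroup Cfsg CfsgLib.LocalEven50
open scoped commutatorElement

variable {G : Type*} [Group G] [Finite G] {p : ℕ} [Fact p.Prime] {R K X : Subgroup G}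

theorem puS0_le_of_section (hG : IsPGroup p G) [K.Normal]
    (hcR : ⁅(⊤ : Subgroup G), (⊤ : Subgroup G)⁆ ≤ R) (hpR : ∀ x : G, x ^ p ∈ R)
    (hRK : ⁅R, R⁆ ≤ K) (hRp : ∀ r ∈ R, r ^ p ∈ K)
    (hγ : ⁅⁅(⊤ : Subgroup G), (⊤ : Subgroup G)⁆, (⊤ : Subgroup G)⁆ ≤ center G ⊔ K)
    (hγ' : p ≠ 3 → ⁅⁅(⊤ : Subgroup G), (⊤ : Subgroup G)⁆, (⊤ : Subgroup G)⁆ ≤ K)
    (hX : X ⊔ R = ⊤) (hRn : R.Normal) (hXp : ∀ x ∈ X, x ^ p = 1) : puS0 p G ≤ K := by
  have hp := (Fact.out : p.Prime)
  set π := QuotientGroup.mk' K with hπ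
  have hπ1 : ∀ g, π g = 1 ↔ g ∈ K := fun g => QuotientGroup.eq_one_iff g
  have hπc : ∀ c ∈ center G ⊔ K, ∀ g, Commute (π c) (π g) := fun c hc g => by
    refine (mem_centralizer_iff.mp ((?_ : center G ⊔ K ≤
      (centralizer ((⊤ : Subgroup (G ⧸ K)) : Set (G ⧸ K))).comap π) hc) (π g) (mem_top _)).symm
    refine sup_le (fun z hz => mem_centralizer_iff.mpr ?_) fun z hz => mem_centralizer_iff.mpr ?_
    · intro y _
      obtain ⟨y, rfl⟩ := QuotientGroup.mk'_surjective K y
      rw [← map_mul, ← map_mul, mem_center_iff.mp hz y]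
    · intro y _
      rw [(hπ1 z).mpr hz, mul_one, one_mul]
  have hRe : ∀ r ∈ R, π r ^ p = 1 := fun r hr => by rw [← map_pow]; exact (hπ1 _).mpr (hRp r hr)
  -- commutators with `p`-th powers
  have key : ∀ t s : G, π ⁅t ^ p, s⁆ = 1 := by
    intro t s
    set c := π ⁅t, s⁆ with hc
    set e := π ⁅t, ⁅t, s⁆⁆ with he
    have heY : ⁅t, ⁅t, s⁆⁆ ∈ center G ⊔ K := by
      rw [← commutatorElement_inv]
      exact inv_mem (hγ (commutator_mem_commutator
        (commutator_mem_commutator (mem_top t) (mem_top s)) (mem_top t)))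
    have hec : Commute e c := hπc _ heY _
    have hconj : π t * c * (π t)⁻¹ = e * c := by
      rw [he, hc, ← map_inv, ← map_mul, ← map_mul, ← map_mul]
      congr 1
      simp only [commutatorElement_def]; group
    have hind : ∀ k : ℕ, π ⁅t ^ k, s⁆ = c ^ k * e ^ k.choose 2 := by
      intro k
      induction k with
      | zero => simp [map_one]
      | succ k ih =>
        rw [pow_succ' t, show ⁅t * t ^ k, s⁆ = t * ⁅t ^ k, s⁆ * t⁻¹ * ⁅t, s⁆ by
          simp only [commutatorElement_def]; group, map_mul, map_mul, map_mul, map_inv, ih, ← hc,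
          show π t * (c ^ k * e ^ k.choose 2) * (π t)⁻¹ =
            (π t * c * (π t)⁻¹) ^ k * (π t * e * (π t)⁻¹) ^ k.choose 2 by
              rw [conj_pow, conj_pow]; group,
          hconj, show π t * e * (π t)⁻¹ = e by
            rw [← (hπc _ heY t).eq, mul_inv_cancel_right],
          hec.mul_pow, Nat.choose_succ_succ', Nat.choose_one_right, pow_add, pow_succ c]
        rw [(hec.pow_pow k k).eq, mul_assoc (c ^ k) (e ^ k), mul_assoc (c ^ k) (e ^ k * e ^ k.choose 2),
          ((hec.pow_left k).mul_left (hec.pow_left (k.choose 2))).eq, ← mul_assoc]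
        simp [pow_add, mul_assoc]
    rw [hind p, hRe _ (hcR (commutator_mem_commutator (mem_top t) (mem_top s))), one_mul]
    rcases eq_or_ne p 2 with h2 | h2
    · rw [he, (hπ1 _).mpr ?_, one_pow]
      rw [← commutatorElement_inv]
      exact inv_mem (hγ' (by omega) (commutator_mem_commutator
        (commutator_mem_commutator (mem_top t) (mem_top s)) (mem_top t)))
    · obtain ⟨j, hj⟩ := hp.dvd_choose_self two_ne_zero (lt_of_le_of_ne hp.two_le (Ne.symm h2))
      rw [hj, pow_mul, he, hRe _ (hcR (commutator_mem_commutator (mem_top _) (mem_top _))), one_pow]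
  have hΦ : ∀ Y : Subgroup G, Y.Normal → K ≤ Y →
      ⁅⁅(⊤ : Subgroup G), (⊤ : Subgroup G)⁆, (⊤ : Subgroup G)⁆ ≤ Y →
      ⁅frattini G, (⊤ : Subgroup G)⁆ ≤ Y := by
    intro Y hY hKY hle
    haveI := hY
    rw [commutator_le_iff_mk]
    refine map_le_iff_le_comap.mpr (frattini_le_of hG ?_ fun t => ?_)
    · rw [← map_le_iff_le_comap, ← commutator_le_iff_mk]
      exact hle
    · show QuotientGroup.mk' Y (t ^ p) ∈ centralizer _
      refine mem_centralizer_iff.mpr ?_
      rintro _ ⟨s, -, rfl⟩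
      refine (commutatorElement_eq_one_iff_mul_comm.mp ?_).symm
      rw [← map_commutatorElement]
      exact (QuotientGroup.eq_one_iff _).mpr (hKY ((hπ1 _).mp (key t s)))
  have hΦR : frattini G ≤ R := frattini_le_of hG hcR hpR
  refine puS0_le hG ?_ (fun h3 => hΦ K inferInstance le_rfl (hγ' h3)) (fun _ => ?_) fun h3 s => ?_
  · exact phiIn_le_of (hG.to_subgroup _) ((commutator_mono hΦR hΦR).trans hRK)
      fun x hx => hRp x (hΦR hx)
  · refine (commutator_mono (hΦ _ inferInstance le_sup_right hγ) le_rfl).trans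
      (commutator_sup_le ?_ (commutator_le_left K ⊤))
    exact (commutator_eq_bot_iff_le_centralizer.mpr (center_le_centralizer _)).le.trans bot_le
  · have hs : s ∈ ((X ⊔ R : Subgroup G) : Set G) := hX.ge (mem_top s)
    rw [mul_normal X R] at hs
    obtain ⟨x, hx, r, hr, rfl⟩ := hs
    have hc : ∀ g, Commute (π ⁅r, x⁆) (π g) := fun g => by
      refine commutatorElement_eq_one_iff_mul_comm.mp ?_
      rw [← map_commutatorElement]
      exact (hπ1 _).mpr (hγ' (by omega) (commutator_mem_commutator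
        (commutator_mem_commutator (mem_top r) (mem_top x)) (mem_top g)))
    rw [← hπ1, map_pow, map_mul, mul_pow_of_central (c := π ⁅r, x⁆)
      (by rw [← map_mul, ← map_mul, ← map_mul]; congr 1; simp only [commutatorElement_def]; group)
      (hc x) (hc r) p, hRe r hr, ← map_pow π x, hXp x hx, map_one, one_mul, mul_one]
    obtain ⟨j, hj⟩ := hp.dvd_choose_self two_ne_zero (by omega)
    rw [hj, pow_mul, hRe _ (hcR (commutator_mem_commutator (mem_top _) (mem_top _))), one_pow]

end CfsgLib.LocalEven50.Family
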