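import Cfsg.Agent.LocalEven50.Family.Chain
import Cfsg.Agent.LocalEven50.Family.Section

/-!
# A node between two nodes with noncommuting images

For a node `n` with neighbours `l`, `u` such that `Z_u` does not commute with the conjugate `V₁` of
`Z_l`, one has `O_p = Z_u C(V₁) = V₁ C(Z_u)` inside `O_p`, and the two neighbours have the same `q`.
-/

set_option linter.style.haveILetI false
set_option linter.unusedSectionVars false

namespace CfsgLib.LocalEven50.Family

open Subgroup Cfsg CfsgLib.LocalEven50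
open scoped commutatorElement

universe u

variable {p : ℕ} [Fact p.Prime] {S : Type u} [Group S] [Finite S]

theorem normalizer_le_normalizer_centralizer {G : Type*} [Group G] (X : Subgroup G) :
    normalizer (X : Set G) ≤ normalizer (centralizer (X : Set G) : Set G) := fun g hg => by
  refine mem_normalizer_iff_map_conj_eq.mpr ?_
  exact (map_centralizer_mulEquiv (MulAut.conj g) X).trans
    (congrArg (fun Y : Subgroup G => centralizer (Y : Set G)) (mem_normalizer_iff_map_conj_eq.mp hg))

namespace Node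

variable (n : Node p S)

instance V_normal : n.V.Normal := Normal.comap inferInstance _

theorem act_sup {g : n.G} {X Y : Subgroup S} (hX : X ≤ n.R) (hY : Y ≤ n.R) :
    n.act g (X ⊔ Y) = n.act g X ⊔ n.act g Y := by
  apply map_injective n.inj
  rw [n.map_act (sup_le hX hY), Subgroup.map_sup, Subgroup.map_sup, cj_sup, n.map_act hX,
    n.map_act hY]

/-- `O_p` normalises the conjugates of normal subgroups of `S` inside it. -/
theorem R_le_normalizer_act {g : n.G} {X : Subgroup S} [X.Normal] (_hX : X ≤ n.R) :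
    n.R ≤ normalizer (n.act g X : Set S) := by
  haveI := pCore_normal p n.G
  intro r hr
  refine mem_normalizer_iff_map_conj_eq.mpr (eq_of_le_of_card_ge ?_
    (card_map_of_injective (MulAut.conj r).injective).ge)
  obtain ⟨t, ht⟩ : g⁻¹ * n.τ r * g ∈ n.τ.range :=
    n.core.core_le (by simpa using Normal.conj_mem ‹(pCore p n.G).Normal› (n.τ r) hr g⁻¹)
  rintro _ ⟨y, ⟨_, ⟨x, hx, rfl⟩, e⟩, rfl⟩
  refine ⟨n.τ (t * x * t⁻¹), mem_map_of_mem _ (Normal.conj_mem inferInstance x hx t), ?_⟩
  show g * n.τ (t * x * t⁻¹) * g⁻¹ = n.τ (r * y * r⁻¹)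
  rw [map_mul, map_mul, map_inv, ht, map_mul, map_mul, map_inv, show n.τ y = g * n.τ x * g⁻¹ from e.symm]
  group

/-- The decompositions of `O_p` at a node between noncommuting neighbours. -/
theorem split {l u : Node p S} (hl : l.V ≤ n.R) (hu : u.V ≤ n.R)
    (hlu : l.V ≤ u.R) (hne : ⁅u.V, n.act n.a l.V⁆ ≠ ⊥) :
    l.q = u.q ∧ u.V ⊓ centralizer (n.act n.a l.V : Set S) ≤ center S ∧
      n.act n.a l.V ⊓ centralizer (u.V : Set S) ≤ n.act n.a (center S) ∧
      u.V ⊔ (n.R ⊓ centralizer (n.act n.a l.V : Set S)) = n.R ∧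
      n.act n.a l.V ⊔ (n.R ⊓ centralizer (u.V : Set S)) = n.R := by
  set V₁ := n.act n.a l.V with hV₁
  have hV₁R : V₁ ≤ n.R := n.act_le hl
  have hun : ⁅u.V, V₁⁆ ≠ ⊥ := hne
  have hU : u.V ⊓ centralizer (V₁ : Set S) ≤ center S := by
    refine u.fix' inf_le_left (fun h => hun (u.le_R_iff.mp h)) ?_
    exact commutator_eq_bot_iff_le_centralizer.mpr inf_le_right
  have hW : ¬ n.act n.a⁻¹ u.V ≤ l.R := fun h => hun (by
    have := n.act_comm (g := n.a) (l.le_R_iff.mp h)
    rwa [n.act_act_inv hu, commutator_comm] at this)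
  have hV : V₁ ⊓ centralizer (u.V : Set S) ≤ n.act n.a (center S) := by
    set Y := n.act n.a⁻¹ (V₁ ⊓ centralizer (u.V : Set S))
    have hY : Y ≤ l.V := (n.act_mono inf_le_left).trans (n.act_inv_act hl).le
    have h1 : Y ≤ center S := by
      refine l.fix' hY hW (n.act_comm ?_)
      exact commutator_eq_bot_iff_le_centralizer.mpr inf_le_right
    have h2 := n.act_mono (g := n.a) h1
    rwa [n.act_act_inv (inf_le_left.trans hV₁R)] at h2
  set Q := n.R ⊓ centralizer (V₁ : Set S) with hQ
  set Q' := n.R ⊓ centralizer (u.V : Set S) with hQ'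
  have hQn : u.V ≤ normalizer (Q : Set S) := by
    refine hu.trans ((le_inf le_normalizer ?_).trans (normalizer_inf_normalizer_le _ _))
    exact (n.R_le_normalizer_act hl).trans (normalizer_le_normalizer_centralizer _)
  have idx : ∀ m : Node p S, Nat.card n.R ≤ m.q * Nat.card ↥(n.R ⊓ m.R) := by
    intro m
    have h1 := card_sup_mul_card_inf_of_coe n.R m.R (mul_normal n.R m.R)
    refine Nat.le_of_mul_le_mul_right ?_ (Nat.card_pos (α := ↥m.R))
    rw [← h1, mul_assoc, mul_comm (Nat.card ↥(n.R ⊓ m.R)), ← mul_assoc]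
    refine Nat.mul_le_mul_right _ ?_
    rw [mul_comm m.q, m.card_R]
    exact card_le_card_group (n.R ⊔ m.R)
  have hQidx : Nat.card n.R ≤ l.q * Nat.card Q := by
    refine (idx l).trans (Nat.mul_le_mul_left _ ?_)
    rw [← n.card_act (g := n.a) (inf_le_left : n.R ⊓ l.R ≤ n.R)]
    refine card_le_of_le (le_inf (n.act_le inf_le_left) ?_)
    refine commutator_eq_bot_iff_le_centralizer.mp (n.act_comm ?_)
    rw [commutator_comm]
    exact le_bot_iff.mp ((commutator_mono le_rfl inf_le_right).trans l.commutator_V_R.le)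
  have hQ'idx : Nat.card n.R ≤ u.q * Nat.card Q' := by
    rw [hQ', u.centralizer_V]
    exact idx u
  have hsplit : ∀ (X Y : Subgroup S) (q' : ℕ), X ≤ n.R → Y ≤ n.R → X ≤ normalizer (Y : Set S) →
      Nat.card ↥(X ⊓ Y) ≤ Nat.card (center S) → Nat.card X = q' * Nat.card (center S) →
      q' * Nat.card Y ≤ Nat.card ↥(X ⊔ Y) ∧ q' * Nat.card Y ≤ Nat.card n.R := by
    intro X Y q' hX hY hn' hinf hcX
    have h1 := card_sup_mul_card_inf_of_coe X Y (coe_mul_of_left_le_normalizer_right X Y hn')
    have h3 : q' * Nat.card Y ≤ Nat.card ↥(X ⊔ Y) := by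
      refine Nat.le_of_mul_le_mul_right ?_ (Nat.card_pos (α := ↥(center S)))
      calc q' * Nat.card Y * Nat.card (center S) = Nat.card X * Nat.card Y := by rw [hcX]; ring
        _ = _ := h1.symm
        _ ≤ _ := Nat.mul_le_mul_left _ hinf
    exact ⟨h3, h3.trans (card_le_of_le (sup_le hX hY))⟩
  have hQ'n : V₁ ≤ normalizer (Q' : Set S) := by
    rw [hQ', u.centralizer_V]
    exact le_top.trans (normalizer_eq_top (n.R ⊓ u.R)).ge
  obtain ⟨a1, b1⟩ := hsplit u.V Q u.q hu inf_le_left hQn
    (card_le_of_le ((inf_le_inf_left _ inf_le_right).trans hU)) u.card_V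
  obtain ⟨a2, b2⟩ := hsplit V₁ Q' l.q hV₁R inf_le_left hQ'n
    ((card_le_of_le ((inf_le_inf_left _ inf_le_right).trans hV)).trans
      (n.card_act n.center_le_R).le) ((n.card_act hl).trans l.card_V)
  have hq : l.q = u.q := by
    have e1 : u.q ≤ l.q := Nat.le_of_mul_le_mul_right (b1.trans hQidx) Nat.card_pos
    have e2 : l.q ≤ u.q := Nat.le_of_mul_le_mul_right (b2.trans hQ'idx) Nat.card_pos
    exact le_antisymm e2 e1
  refine ⟨hq, hU, hV, eq_of_le_of_card_ge (sup_le hu inf_le_left) ?_,
    eq_of_le_of_card_ge (sup_le hV₁R inf_le_left) ?_⟩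
  · exact (hQidx.trans_eq (by rw [hq])).trans a1
  · exact (hQ'idx.trans_eq (by rw [hq])).trans a2

end Node

end CfsgLib.LocalEven50.Family
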