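import Cfsg.Agent.LocalEven50.Family.Middle

/-!
# `Z(S) ∩ S₀` meets `[Z(O_p), S]`

In a node in which `Z(S) ∩ S₀` is not central: for `q = 2` because `Z(O_p) ∩ Φ(S)` is not central in
`S`, for `q > 2` because a torus element in `N(S)` fixes no point of `Z(S)` modulo the fixed points.
-/

set_option linter.style.haveILetI false
set_option linter.unusedSectionVars false

namespace CfsgLib.LocalEven50.Family

open Subgroup Cfsg CfsgLib.LocalEven50
open scoped MatrixGroups commutatorElement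

universe u

theorem phiIn_characteristic {G : Type*} [Group G] (X : Subgroup G) [X.Characteristic] :
    (phiIn X).Characteristic := by
  refine characteristic_iff_map_le.mpr fun φ => le_of_eq ?_
  have h : ∀ φ : MulAut G, (phiIn X).map φ.toMonoidHom = phiIn (X.map φ.toMonoidHom) := fun φ => by
    have e : (frattini ↥X).map (X.equivMapOfInjective φ.toMonoidHom φ.injective).toMonoidHom =
        frattini ↥(X.map φ.toMonoidHom) := by
      refine le_antisymm (map_le_iff_le_comap.mpr (frattini_le_comap_frattini_of_surjective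
        (MulEquiv.surjective _))) fun b hb => ?_
      exact ⟨(X.equivMapOfInjective φ.toMonoidHom φ.injective).symm b,
        frattini_le_comap_frattini_of_surjective
          (φ := (X.equivMapOfInjective φ.toMonoidHom φ.injective).symm.toMonoidHom)
          (MulEquiv.surjective _) hb, MulEquiv.apply_symm_apply _ b⟩
    rw [phiIn, phiIn, ← e, Subgroup.map_map, Subgroup.map_map]
    rfl
  rw [h φ, characteristic_iff_map_eq.mp inferInstance φ]

instance puS0_characteristic {p : ℕ} {G : Type*} [Group G] : (puS0 p G).Characteristic := by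
  haveI := phiIn_characteristic (frattini G)
  haveI : (powerClosure p 1 (⊤ : Subgroup G)).Characteristic := by
    refine characteristic_iff_map_le.mpr fun φ => ?_
    rw [powerClosure, MonoidHom.map_closure]
    refine closure_mono ?_
    rintro _ ⟨_, ⟨x, -, rfl⟩, rfl⟩
    exact ⟨φ x, mem_top _, map_pow φ.toMonoidHom x _⟩
  unfold puS0
  split_ifs <;> infer_instance

instance center_inf_characteristic {G : Type*} [Group G] (U : Subgroup G) [U.Characteristic] :
    (center G ⊓ U).Characteristic := inferInstance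

variable {p : ℕ} [Fact p.Prime] {S : Type u} [Group S] [Finite S]

namespace Node

variable (n : Node p S)

/-- A characteristic subgroup of `S` is normalised by the normaliser of its image. -/
theorem normalizer_le_normalizer_map {W : Subgroup S} [hW : W.Characteristic] :
    normalizer (n.τ.range : Set n.G) ≤ normalizer (W.map n.τ : Set n.G) := by
  intro h hh
  refine mem_normalizer_iff_map_conj_eq.mpr (eq_of_le_of_card_ge ?_
    (card_map_of_injective (MulAut.conj h).injective).ge)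
  have hmem : ∀ x : S, h * n.τ x * h⁻¹ ∈ n.τ.range := fun x =>
    (mem_normalizer_iff.mp hh _).mp ⟨x, rfl⟩
  let g : S →* S :=
    { toFun := fun x => (MonoidHom.ofInjective n.inj).symm ⟨_, hmem x⟩
      map_one' := by
        rw [← (MonoidHom.ofInjective n.inj).symm.map_one]
        congr 1
        exact Subtype.ext (by simp)
      map_mul' := fun x y => by
        rw [← map_mul]
        congr 1
        exact Subtype.ext (by simp [mul_assoc]) }
  have hg : ∀ x, n.τ (g x) = h * n.τ x * h⁻¹ := fun x => by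
    show n.τ ((MonoidHom.ofInjective n.inj).symm ⟨_, hmem x⟩) = _
    rw [← MonoidHom.ofInjective_apply n.inj, MulEquiv.apply_symm_apply]
  have ginj : Function.Injective g := fun x y e => by
    refine n.inj ?_
    have := congrArg n.τ e
    rw [hg, hg] at this
    exact mul_left_cancel (mul_right_cancel this)
  let φ : MulAut S := MulEquiv.ofBijective g
    ((Finite.injective_iff_bijective).mp ginj)
  rintro _ ⟨_, ⟨x, hx, rfl⟩, rfl⟩
  exact ⟨φ x, (characteristic_iff_map_le.mp hW φ) (mem_map_of_mem _ hx), hg x⟩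

/-- For `q = 2`, `Z(S) ∩ S₀` meets `[Z(O_p), S]`. -/
theorem inf_commutator_ne_bot_of_two (hq : n.q = 2)
    (h : ¬ n.Central (center S ⊓ puS0 p S)) :
    center S ⊓ puS0 p S ⊓ ⁅n.V, (⊤ : Subgroup S)⁆ ≠ ⊥ := by
  have hS := n.isPGroup
  obtain ⟨k, hk⟩ := n.core.data.q_pow
  have hp2 : p = 2 := by
    rw [hq] at hk
    exact ((Nat.prime_dvd_prime_iff_eq Fact.out Nat.prime_two).mp
      (hk ▸ dvd_pow_self p (by rintro rfl; simp at hk)))
  obtain ⟨ht1, -, ht3⟩ := pushUp_torus n.sit
  have hS'R : ⁅(⊤ : Subgroup S), (⊤ : Subgroup S)⁆ ≤ n.R := by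
    rw [commutator_le]
    intro x _ y _
    show n.τ ⁅x, y⁆ ∈ pCore p n.G
    rw [map_commutatorElement]
    exact ht1 _ ⟨x, rfl⟩ _ ⟨y, rfl⟩
  have hpR : ∀ x : S, x ^ p ∈ n.R := fun x => by
    show n.τ (x ^ p) ∈ pCore p n.G
    rw [map_pow]; exact ht3 _ ⟨x, rfl⟩
  set F := phiIn n.R with hF
  haveI hFn : F.Normal := phiIn_normal n.R
  have hR : IsPGroup p n.R := hS.to_subgroup _
  obtain ⟨y, hy⟩ : ∃ y : S, y ∉ n.R := by
    obtain ⟨_, ⟨y, rfl⟩, hy⟩ := n.core.exists_not_core
    exact ⟨y, hy⟩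
  have hyR : zpowers y ⊔ n.R = ⊤ := by
    refine eq_of_le_of_card_ge le_top ?_
    rw [card_top, ← n.card_R, hq]
    obtain ⟨j, hj⟩ : Nat.card n.R ∣ Nat.card ↥(zpowers y ⊔ n.R) := card_dvd_of_le le_sup_right
    rw [hj]
    refine Nat.mul_le_mul_left _ ?_
    by_contra hlt
    have hj1 : j = 1 := by
      rcases j with _ | _ | j
      · exact absurd hj (by simpa using Nat.card_pos.ne')
      · rfl
      · omega
    rw [hj1, mul_one] at hj
    exact hy ((eq_of_le_of_card_ge le_sup_right hj.le).ge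
      (mem_sup_left (mem_zpowers y)))
  -- `[S, S]` is central modulo `F`
  set N := (center (S ⧸ F)).comap (QuotientGroup.mk' F) with hN
  haveI : N.Normal := Normal.comap inferInstance _
  have memN : ∀ x, x ∈ N ↔ ∀ s, ⁅x, s⁆ ∈ F := fun x => by
    rw [hN, mem_comap, mem_center_iff]
    constructor
    · intro h s
      refine (QuotientGroup.eq_one_iff _).mp ?_
      show QuotientGroup.mk' F ⁅x, s⁆ = 1
      rw [map_commutatorElement, commutatorElement_eq_one_iff_mul_comm]
      exact (h _).symm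
    · intro h z
      obtain ⟨s, rfl⟩ := QuotientGroup.mk'_surjective F z
      refine (commutatorElement_eq_one_iff_mul_comm.mp ?_).symm
      rw [← map_commutatorElement]
      exact (QuotientGroup.eq_one_iff _).mpr (h s)
  have hFN : F ≤ N := fun x hx => (memN x).mpr fun s =>
    commutator_le_left F ⊤ (commutator_mem_commutator hx (mem_top s))
  have hryN : ∀ r ∈ n.R, ⁅r, y⁆ ∈ N := by
    intro r hr
    have hd : ⁅r, y⁆ ∈ n.R := hS'R (commutator_mem_commutator (mem_top r) (mem_top y))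
    rw [hN, mem_comap, mem_center_iff]
    intro z
    obtain ⟨s, rfl⟩ := QuotientGroup.mk'_surjective F z
    have hle : zpowers y ⊔ n.R ≤
        (centralizer ({QuotientGroup.mk' F ⁅r, y⁆} : Set (S ⧸ F))).comap (QuotientGroup.mk' F) := by
      refine sup_le (zpowers_le.mpr (mem_centralizer_singleton_iff.mpr ?_)) fun t ht =>
        mem_centralizer_singleton_iff.mpr ?_
      · refine (commutatorElement_eq_one_iff_mul_comm.mp ?_).symm
        rw [← map_commutatorElement]
        refine (QuotientGroup.eq_one_iff _).mpr ?_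
        have e : ⁅⁅r, y⁆, y⁆ =
            (⁅r, y⁆ * ⁅r, y * y⁆⁻¹ * ⁅r, y⁆⁻¹) * (⁅r, y⁆ * ⁅r, y⁆) := by
          simp only [commutatorElement_def]; group
        rw [e]
        have h2 : ⁅r, y * y⁆ ∈ F := commutator_le_phiIn hR
          (commutator_mem_commutator hr (by rw [← sq, ← hp2]; exact hpR y))
        have h3 : ⁅r, y⁆ ^ p ∈ F := pow_mem_phiIn hR hd
        rw [hp2, sq] at h3
        exact F.mul_mem (Normal.conj_mem hFn _ (F.inv_mem h2) ⁅r, y⁆) h3
      · refine (commutatorElement_eq_one_iff_mul_comm.mp ?_).symm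
        rw [← map_commutatorElement]
        exact (QuotientGroup.eq_one_iff _).mpr (commutator_le_phiIn hR (commutator_mem_commutator hd ht))
    exact mem_centralizer_singleton_iff.mp (hle (hyR.ge (mem_top s)))
  have hS'N : ⁅(⊤ : Subgroup S), (⊤ : Subgroup S)⁆ ≤ N := by
    have hRy : ⁅n.R, zpowers y⁆ ≤ N := by
      rw [commutator_le_iff_mk, MonoidHom.map_zpowers, le_centralizer_iff, zpowers_le]
      refine mem_centralizer_iff.mpr ?_
      rintro _ ⟨r, hr, rfl⟩
      refine commutatorElement_eq_one_iff_mul_comm.mp ?_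
      rw [← map_commutatorElement]
      exact (QuotientGroup.eq_one_iff _).mpr (hryN r hr)
    refine (show ⁅(⊤ : Subgroup S), (⊤ : Subgroup S)⁆ = ⁅zpowers y ⊔ n.R, zpowers y ⊔ n.R⁆ by
      rw [hyR]).trans_le ?_
    refine commutator_sup_le ?_ ?_ <;> rw [commutator_comm] <;> refine commutator_sup_le ?_ ?_
    · exact (commutator_eq_bot_iff_le_centralizer.mpr
        (le_centralizer_iff_isMulCommutative.mpr inferInstance)).le.trans bot_le
    · exact hRy
    · exact (commutator_comm _ _).trans_le hRy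
    · exact (commutator_le_phiIn hR).trans hFN
  have hΦN : frattini S ≤ N := by
    refine frattini_le_of hS hS'N fun t => (memN _).mpr fun s => ?_
    rw [hp2, sq, show ⁅t * t, s⁆ = (t * ⁅t, s⁆ * t⁻¹ * ⁅t, s⁆⁻¹) * (⁅t, s⁆ * ⁅t, s⁆) by
      simp only [commutatorElement_def]; group]
    refine F.mul_mem ?_ ?_
    · have h1 := (memN _).mp (hS'N (commutator_mem_commutator (mem_top t) (mem_top s))) t
      have h2 := F.inv_mem h1
      rw [commutatorElement_inv] at h2
      simpa [commutatorElement_def] using h2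
    · have h1 := pow_mem_phiIn hR (hS'R (commutator_mem_commutator (mem_top t) (mem_top s)))
      rwa [show ⁅t, s⁆ ^ p = ⁅t, s⁆ * ⁅t, s⁆ by rw [← sq, hp2]] at h1
  have hΦF : ⁅frattini S, (⊤ : Subgroup S)⁆ ≤ F := by
    rw [commutator_le]
    exact fun x hx s _ => (memN x).mp (hΦN hx) s
  have hS₀ : puS0 p S ≤ F := by
    refine puS0_le hS ?_ (fun _ => hΦF) (fun h3 => by omega) fun h3 => by omega
    have hΦR : frattini S ≤ n.R := frattini_le_of hS hS'R hpR
    exact phiIn_le_of (hS.to_subgroup _) ((commutator_mono hΦR hΦR).trans (commutator_le_phiIn hR))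
      fun x hx => pow_mem_phiIn hR (hΦR hx)
  haveI := pCore_normal p n.G
  haveI : (F.map n.τ).Normal := by
    rw [hF, map_phiIn n.inj, n.map_R]
    exact phiIn_normal _
  obtain ⟨v, ⟨hvF, hvV⟩, hv⟩ : ∃ v ∈ F ⊓ n.V, v ∉ center S := by
    refine SetLike.not_le_iff_exists.mp fun hle => h (n.central_of_puS0_le (P := F.map n.τ) ?_
      (map_mono hS₀))
    refine n.le_zG_of_le_zS ?_
    rw [← n.map_V, ← Subgroup.map_inf _ _ _ n.inj, ← n.map_center]
    exact map_mono hle
  obtain ⟨s, hs⟩ : ∃ s : S, ⁅v, s⁆ ≠ 1 := by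
    by_contra hne
    push Not at hne
    exact hv (mem_center_iff.mpr fun s => (commutatorElement_eq_one_iff_mul_comm.mp (hne s)).symm)
  have hvΦ : v ∈ frattini S := by
    have : F ≤ frattini S := phiIn_le_of hR ((commutator_mono le_top le_top).trans
      (by rw [← _root_.commutator_def]; exact Solvable.commutator_le_frattini hS))
      fun x _ => Solvable.pow_mem_frattini hS x
    exact this hvF
  refine fun hbot => hs (mem_bot.mp (hbot.le ⟨⟨n.quad (commutator_mem_commutator hvV (mem_top s)), ?_⟩,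
    commutator_mem_commutator hvV (mem_top s)⟩))
  unfold puS0
  rw [if_pos hp2]
  exact mem_sup_left (commutator_mem_commutator hvΦ (mem_top s))

/-- `Z(S) ∩ S₀` meets `[Z(O_p), S]`. -/
theorem inf_commutator_ne_bot (h : ¬ n.Central (center S ⊓ puS0 p S)) :
    center S ⊓ puS0 p S ⊓ ⁅n.V, (⊤ : Subgroup S)⁆ ≠ ⊥ := by
  classical
  rcases eq_or_ne n.q 2 with hq2 | hq2
  · exact n.inf_commutator_ne_bot_of_two hq2 h
  set W := center S ⊓ puS0 p S with hW
  intro hbot
  haveI := pCore_normal p n.G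
  obtain ⟨-, ⟨PS, hPS⟩, -, -, K₀, hK₀, F, _, _, nn, hF, ⟨e⟩⟩ := n.sit
  haveI := hK₀
  have B' : PUCore p (PS : Subgroup n.G) n.M n.q n.a := by rw [hPS]; exact n.core
  obtain ⟨φ, -, hker, hU, hL, hq⟩ := exists_pslHom B' K₀ hF e
  obtain ⟨ρ, ψ, hstd, hρ, -, hψker, hψeq, -, hψ0, -⟩ :=
    IsNatSection.exists_rep B' B'.natSection hF hker hU hL hq
  set S₀ := n.τ.range with hS₀
  rw [hPS] at hψ0 hstd hL
  -- an element of `W` outside the fixed points
  obtain ⟨w, hwW, hwG⟩ : ∃ w ∈ W, n.τ w ∉ zG p n.G := by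
    by_contra hne
    push Not at hne
    exact h (map_le_iff_le_comap.mpr fun w hw => (hne w hw).2)
  have hwC : n.τ w ∈ zS S₀ := n.map_center ▸ mem_map_of_mem n.τ hwW.1
  -- a torus element normalising `S`
  obtain ⟨t, ht1⟩ : ∃ t : Fˣ, t ≠ 1 := by
    haveI : Nontrivial Fˣ := by
      rw [← Fintype.one_lt_card_iff_nontrivial, Fintype.card_units]
      have := n.one_lt_q
      omega
    exact exists_ne 1
  obtain ⟨g, hg⟩ := hρ (diagHom t)
  set B0 := (lowerHom F).range.comap ρ with hB0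
  have hSB : S₀ ≤ B0 := fun s hs => by
    obtain ⟨x, hx⟩ := hL.le (mem_map_of_mem φ hs)
    exact ⟨x, (hstd.2 s hs x hx.symm).symm⟩
  have hdiag : ∀ x : F, diagHom t * lowerHom F (.ofAdd x) * (diagHom t)⁻¹ =
      lowerHom F (.ofAdd (((t⁻¹ : Fˣ) : F) * ((t⁻¹ : Fˣ) : F) * x)) := fun x => by
    rw [mul_inv_eq_iff_eq_mul]
    apply Subtype.ext
    show !![(t : F), 0; 0, ((t⁻¹ : Fˣ) : F)] * !![1, 0; x, 1] =
      !![1, 0; ((t⁻¹ : Fˣ) : F) * ((t⁻¹ : Fˣ) : F) * x, 1] * !![(t : F), 0; 0, ((t⁻¹ : Fˣ) : F)]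
    have ht : ((t⁻¹ : Fˣ) : F) * (t : F) = 1 := t.inv_mul
    ext i j
    have htne := t.ne_zero
    fin_cases i <;> fin_cases j <;> simp [Matrix.mul_apply, Fin.sum_univ_two]
    field_simp
  have hSg : ((g • PS : Sylow p n.G) : Subgroup n.G) ≤ B0 := by
    intro z hz
    rw [Sylow.coe_subgroup_smul] at hz
    obtain ⟨s, hs, rfl⟩ := hz
    obtain ⟨x, hx⟩ := hSB (hPS ▸ hs : s ∈ S₀)
    refine ⟨.ofAdd (((t⁻¹ : Fˣ) : F) * ((t⁻¹ : Fˣ) : F) * x.toAdd), ?_⟩
    show _ = ρ (g * s * g⁻¹)
    rw [map_mul ρ, map_mul ρ, map_inv ρ, hg, ← hx, ← hdiag]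
    rfl
  obtain ⟨l, hl⟩ := MulAction.exists_smul_eq B0 ((g • PS).subtype hSg)
    (PS.subtype (hPS ▸ hSB))
  rw [Sylow.smul_subtype] at hl
  have hl' : (l : n.G) • (g • PS) = PS := Sylow.subtype_injective hl
  rw [smul_smul, Sylow.smul_eq_iff_mem_normalizer] at hl'
  set h' := (l : n.G) * g with hh'
  have hh : h' ∈ normalizer (S₀ : Set n.G) := by rw [← hPS]; exact hl'
  -- `Z(S) = [V, S] C_V(G)`
  obtain ⟨s, hs, hsR⟩ := n.core.exists_not_core
  set L := ⁅zR p n.G, S₀⁆ with hLdef
  have hVab := commutator_eq_bot_iff_le_centralizer.mpr n.core.zR_comm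
  let f : ↥(zR p n.G) →* ↥(zS S₀) :=
    { toFun := fun v => ⟨⁅(v : n.G), s⁆, n.core.quad (commutator_mem_commutator v.2 hs)⟩
      map_one' := Subtype.ext (commutatorElement_one_left _)
      map_mul' := fun x y => Subtype.ext (by
        have hy : ⁅(y : n.G), s⁆ ∈ zR p n.G := n.core.zS_le (n.core.quad (commutator_mem_commutator y.2 hs))
        have hx : ⁅(x : n.G), s⁆ ∈ zR p n.G := n.core.zS_le (n.core.quad (commutator_mem_commutator x.2 hs))
        have hxy : Commute (x : n.G) ⁅(y : n.G), s⁆ :=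
          commutatorElement_eq_one_iff_mul_comm.mp (mem_bot.mp (hVab.le
            (commutator_mem_commutator x.2 hy)))
        have hyx : Commute ⁅(y : n.G), s⁆ ⁅(x : n.G), s⁆ :=
          commutatorElement_eq_one_iff_mul_comm.mp (mem_bot.mp (hVab.le
            (commutator_mem_commutator hy hx)))
        show ⁅(x : n.G) * (y : n.G), s⁆ = ⁅(x : n.G), s⁆ * ⁅(y : n.G), s⁆
        rw [show ⁅(x : n.G) * (y : n.G), s⁆ = (x : n.G) * ⁅(y : n.G), s⁆ * (x : n.G)⁻¹ *
          ⁅(x : n.G), s⁆ by simp only [commutatorElement_def]; group, hxy.eq, mul_inv_cancel_right,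
          hyx.eq]) }
  have hCL : zS S₀ ≤ L ⊔ zG p n.G := by
    set D := f.range.map (zS S₀).subtype with hD
    have hDL : D ≤ L := by
      rintro _ ⟨_, ⟨v, rfl⟩, rfl⟩
      exact commutator_mem_commutator v.2 hs
    have hinf : D ⊓ zG p n.G = ⊥ := by
      rw [eq_bot_iff]
      rintro _ ⟨⟨_, ⟨v, rfl⟩, rfl⟩, hz⟩
      exact mem_bot.mpr (n.core.commutator_eq_one v.2 hs hz)
    have hker : f.ker.map (zR p n.G).subtype = zS S₀ := by
      refine Eq.trans ?_ (n.core.fix s hs hsR)
      ext v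
      constructor
      · rintro ⟨v, hv, rfl⟩
        exact ⟨v.2, mem_centralizer_singleton_iff.mpr
          (commutatorElement_eq_one_iff_mul_comm.mp (congrArg Subtype.val hv))⟩
      · rintro ⟨hv, hvs⟩
        exact ⟨⟨v, hv⟩, Subtype.ext (commutatorElement_eq_one_iff_mul_comm.mpr
          (mem_centralizer_singleton_iff.mp hvs)), rfl⟩
    have hcardD : Nat.card D = n.q := by
      rw [hD, card_map_of_injective (zS S₀).subtype_injective, ← index_ker]
      have h1 := f.ker.card_mul_index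
      rw [n.core.card_zR, ← card_map_of_injective (K := f.ker) (zR p n.G).subtype_injective, hker,
        mul_comm n.q] at h1
      exact Nat.eq_of_mul_eq_mul_left Nat.card_pos h1
    refine le_trans (le_of_eq ?_) (sup_le_sup_right hDL _)
    refine (eq_of_le_of_card_ge (sup_le ?_ n.core.zG_le_zS) ?_).symm
    · exact map_subtype_le _
    · have h1 := card_sup_mul_card_inf_of_coe D (zG p n.G) (mul_normal D _)
      rw [hinf, card_bot, mul_one, hcardD] at h1
      rw [h1, n.core.card_zS]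
  -- `h` fixes `w`
  obtain ⟨d, hd, z, hz, ew⟩ : ∃ d ∈ L, ∃ z ∈ zG p n.G, d * z = n.τ w := by
    have hw' : n.τ w ∈ ((L ⊔ zG p n.G : Subgroup n.G) : Set n.G) := hCL hwC
    rwa [mul_normal L (zG p n.G)] at hw'
  have hLh : cj h' L = L := by
    rw [hLdef, cj_commutator, cj_normal h' (zR p n.G)]
    congr 1
    exact mem_normalizer_iff_map_conj_eq.mp hh
  have hfix : h' * n.τ w * h'⁻¹ = n.τ w := by
    obtain ⟨x, hx, ex⟩ : ∃ x ∈ W, n.τ x = h' * n.τ w * h'⁻¹ :=
      (mem_normalizer_iff.mp (n.normalizer_le_normalizer_map (W := W) hh) _).mp (mem_map_of_mem n.τ hwW)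
    have h1 : n.τ (x * w⁻¹) ∈ L := by
      rw [map_mul, map_inv, ex, ← ew]
      have hz' := mem_centralizer_iff.mp hz.2 h' (mem_top h')
      have e1 : h' * (d * z) * h'⁻¹ * (d * z)⁻¹ = (h' * d * h'⁻¹) * d⁻¹ := by
        rw [← mul_assoc h' d z, mul_assoc (h' * d) z h'⁻¹,
          show z * h'⁻¹ = h'⁻¹ * z by
            calc z * h'⁻¹ = h'⁻¹ * (h' * z) * h'⁻¹ := by group
              _ = h'⁻¹ * (z * h') * h'⁻¹ := by rw [hz']
              _ = _ := by group]
        group
      rw [e1]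
      exact L.mul_mem (hLh ▸ mem_map_of_mem (MulAut.conj h').toMonoidHom hd) (L.inv_mem hd)
    have h2 : x * w⁻¹ ∈ W ⊓ ⁅n.V, (⊤ : Subgroup S)⁆ := by
      refine ⟨W.mul_mem hx (W.inv_mem hwW), ?_⟩
      show x * w⁻¹ ∈ ⁅n.V, (⊤ : Subgroup S)⁆
      rw [← n.comap_map ⁅n.V, (⊤ : Subgroup S)⁆, mem_comap, map_commutator, n.map_V, n.map_top]
      exact h1
    rw [← ex, mul_inv_eq_one.mp (mem_bot.mp (hbot.le h2))]
  -- but it scales it
  set v : ↥(zR p n.G) := ⟨n.τ w, n.core.zS_le hwC⟩
  have he := hψeq h' v v (by exact hfix.symm)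
  have hv0 : (ψ v).toAdd 0 = 0 := (hψ0 v).mp hwC
  have hv1 : (ψ v).toAdd 1 ≠ 0 := fun h1 => hwG ((hψker v).mp (by
    apply Multiplicative.toAdd.injective
    funext i
    fin_cases i
    · exact hv0
    · exact h1))
  obtain ⟨x, hx⟩ := l.2
  have hρh : ρ h' = lowerHom F x * diagHom t := by rw [hh', map_mul, hg, ← hx]
  rw [hρh, Matrix.SpecialLinearGroup.coe_mul] at he
  have he1 : (ψ v).toAdd 1 = ((t⁻¹ : Fˣ) : F) * (ψ v).toAdd 1 := by
    have h3 := congrFun he 1
    change (ψ v).toAdd 1 = ((!![1, 0; x.toAdd, 1] * !![(t : F), 0; 0, ((t⁻¹ : Fˣ) : F)]).mulVec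
      (ψ v).toAdd) 1 at h3
    simpa [Matrix.mulVec, dotProduct, Matrix.mul_apply, Fin.sum_univ_two, hv0] using h3
  have : ((t⁻¹ : Fˣ) : F) = 1 := (mul_eq_right₀ hv1).mp he1.symm
  exact ht1 (inv_eq_one.mp (Units.ext this))

end Node

end CfsgLib.LocalEven50.Family
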