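import Cfsg.Agent.LocalEven50.Family.Nuc

/-!
# Critical words

A word is a list of nodes with group elements.  A critical word carries the `Z(O_p)` of its end out
of `O_p` of its target; it can be prolonged at the target by every node `Y` for which `Y V` is not
normal there.
-/

set_option linter.style.haveILetI false
set_option linter.unusedSectionVars false

namespace CfsgLib.LocalEven50.Family

open Subgroup Cfsg CfsgLib.LocalEven50
open scoped commutatorElement

universe u

variable {p : ℕ} [Fact p.Prime] {S : Type u} [Group S] [Finite S]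

/-- Apply a word, the head last. -/
def pushW : List (Σ n : Node p S, n.G) → Subgroup S → Subgroup S
  | [], X => X
  | c :: w, X => c.1.act c.2 (pushW w X)

/-- Undo a word. -/
def pullW : List (Σ n : Node p S, n.G) → Subgroup S → Subgroup S
  | [], X => X
  | c :: w, X => pullW w (c.1.act c.2⁻¹ X)

/-- Every step stays below the acting `O_p`. -/
def GoodW : List (Σ n : Node p S, n.G) → Subgroup S → Prop
  | [], _ => True
  | c :: w, X => pushW w X ≤ c.1.R ∧ GoodW w X

/-- All letters are nodes in which `U` is not central. -/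
def BadW (U : Subgroup S) (w : List (Σ n : Node p S, n.G)) : Prop :=
  ∀ c ∈ w, ¬ (c.1).Central U

theorem pushW_append (u w : List (Σ n : Node p S, n.G)) (X : Subgroup S) :
    pushW (u ++ w) X = pushW u (pushW w X) := by
  induction u with
  | nil => rfl
  | cons c u ih => simp only [List.cons_append, pushW, ih]

theorem pullW_append (u w : List (Σ n : Node p S, n.G)) (X : Subgroup S) :
    pullW (u ++ w) X = pullW w (pullW u X) := by
  induction u generalizing X with
  | nil => rfl
  | cons c u ih => simp only [List.cons_append, pullW, ih]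

theorem pushW_mono (w : List (Σ n : Node p S, n.G)) {X Y : Subgroup S} (h : X ≤ Y) :
    pushW w X ≤ pushW w Y := by
  induction w with
  | nil => exact h
  | cons c w ih => exact c.1.act_mono ih

theorem pushW_comm (w : List (Σ n : Node p S, n.G)) {X Y : Subgroup S} (h : ⁅X, Y⁆ = ⊥) :
    ⁅pushW w X, pushW w Y⁆ = ⊥ := by
  induction w with
  | nil => exact h
  | cons c w ih => exact c.1.act_comm ih

theorem pullW_comm (w : List (Σ n : Node p S, n.G)) {X Y : Subgroup S} (h : ⁅X, Y⁆ = ⊥) :
    ⁅pullW w X, pullW w Y⁆ = ⊥ := by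
  induction w generalizing X Y with
  | nil => exact h
  | cons c w ih => exact ih (c.1.act_comm h)

theorem GoodW.mono {w : List (Σ n : Node p S, n.G)} {X Y : Subgroup S} (h : GoodW w Y)
    (hle : X ≤ Y) : GoodW w X := by
  induction w with
  | nil => trivial
  | cons c w ih => exact ⟨(pushW_mono w hle).trans h.1, ih h.2⟩

theorem card_pushW {w : List (Σ n : Node p S, n.G)} {X : Subgroup S} (h : GoodW w X) :
    Nat.card (pushW w X) = Nat.card X := by
  induction w with
  | nil => rfl
  | cons c w ih => rw [pushW, c.1.card_act h.1, ih h.2]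

theorem pushW_commutator {w : List (Σ n : Node p S, n.G)} {X Y : Subgroup S} (hX : GoodW w X)
    (hY : GoodW w Y) : ⁅pushW w X, pushW w Y⁆ = pushW w ⁅X, Y⁆ := by
  induction w with
  | nil => rfl
  | cons c w ih => rw [pushW, pushW, pushW, ← ih hX.2 hY.2, c.1.act_commutator hX.1 hY.1]

variable {U : Subgroup S} {k : ℕ}

theorem pushW_mem_lev {w : List (Σ n : Node p S, n.G)} (hw : BadW U w) {j : ℕ} {X : Subgroup S}
    (hX : X ∈ lev p U j) : pushW w X ∈ lev p U (j + w.length) := by
  induction w with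
  | nil => exact hX
  | cons c w ih =>
    exact act_mem_lev (hw c List.mem_cons_self) c.2 (ih fun d hd => hw d (List.mem_cons_of_mem c hd))

theorem pullW_mem_lev {w : List (Σ n : Node p S, n.G)} (hw : BadW U w) {j : ℕ} {X : Subgroup S}
    (hX : X ∈ lev p U j) : pullW w X ∈ lev p U (j + w.length) := by
  induction w generalizing j X with
  | nil => exact hX
  | cons c w ih =>
    rw [pullW, List.length_cons, ← add_assoc, Nat.add_right_comm]
    exact ih (fun d hd => hw d (List.mem_cons_of_mem c hd))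
      (act_mem_lev (hw c List.mem_cons_self) _ hX)

theorem goodW (hsm : Small p U k) {w : List (Σ n : Node p S, n.G)} (hw : BadW U w) {j : ℕ}
    {X : Subgroup S} (hX : X ∈ lev p U j) (h : j + w.length ≤ k) : GoodW w X := by
  induction w with
  | nil => trivial
  | cons c w ih =>
    rw [List.length_cons] at h
    have hw' : BadW U w := fun d hd => hw d (List.mem_cons_of_mem c hd)
    exact ⟨hsm _ (by omega) _ (pushW_mem_lev hw' hX) _ (hw c List.mem_cons_self),
      ih hw' (by omega)⟩

theorem push_pullW (hsm : Small p U k) {w : List (Σ n : Node p S, n.G)} (hw : BadW U w) {j : ℕ}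
    {X : Subgroup S} (hX : X ∈ lev p U j) (h : j + w.length ≤ k) :
    pushW w (pullW w X) = X ∧ GoodW w (pullW w X) := by
  induction w generalizing j X with
  | nil => exact ⟨rfl, trivial⟩
  | cons c w ih =>
    rw [List.length_cons] at h
    have hw' : BadW U w := fun d hd => hw d (List.mem_cons_of_mem c hd)
    have h1 : X ≤ c.1.R := hsm j (by omega) _ hX _ (hw c List.mem_cons_self)
    obtain ⟨e, hg⟩ := ih hw' (act_mem_lev (hw c List.mem_cons_self) c.2⁻¹ hX) (by omega)
    refine ⟨?_, ?_, hg⟩
    · rw [pullW, pushW, e, c.1.act_act_inv h1]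
    · rw [pullW, e]; exact c.1.act_le h1

theorem pull_pushW (hsm : Small p U k) {w : List (Σ n : Node p S, n.G)} (hw : BadW U w) {j : ℕ}
    {X : Subgroup S} (hX : X ∈ lev p U j) (h : j + w.length ≤ k) :
    pullW w (pushW w X) = X := by
  induction w with
  | nil => rfl
  | cons c w ih =>
    rw [List.length_cons] at h
    have hw' : BadW U w := fun d hd => hw d (List.mem_cons_of_mem c hd)
    rw [pushW, pullW, c.1.act_inv_act
      (hsm _ (by omega) _ (pushW_mem_lev hw' hX) _ (hw c List.mem_cons_self)), ih hw' (by omega)]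

/-- A word of length `k` carrying the `Z(O_p)` of `e` out of the `O_p` of `n`. -/
structure Crit (p : ℕ) [Fact p.Prime] (U : Subgroup S) (k : ℕ) (n : Node p S)
    (w : List (Σ m : Node p S, m.G)) (e : Node p S) : Prop where
  length : w.length = k
  bad : BadW U w
  target : ¬ n.Central U
  last : ¬ e.Central U
  crit : ¬ pushW w e.V ≤ n.R

theorem exists_crit {n : Node p S} (hn : ¬ n.Central U) : ∀ {i : ℕ} {X : Subgroup S},
    X ∈ lev p U i → ∃ w : List (Σ m : Node p S, m.G), ∃ e : Node p S,
      w.length = i ∧ BadW U w ∧ ¬ e.Central U ∧ X = pushW w e.V := by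
  intro i
  induction i with
  | zero => rintro _ ⟨e, he, rfl⟩; exact ⟨[], e, rfl, fun c hc => absurd hc List.not_mem_nil, he, rfl⟩
  | succ i ih =>
    rintro _ ⟨m, hm, g, X, hX, rfl⟩
    obtain ⟨w, e, hl, hw, he, rfl⟩ := ih hX
    refine ⟨⟨m, g⟩ :: w, e, by simp [hl], fun c hc => ?_, he, rfl⟩
    rcases List.mem_cons.mp hc with rfl | hc
    · exact hm
    · exact hw c hc

namespace Crit

variable {n e : Node p S} {w : List (Σ m : Node p S, m.G)}

theorem ne_bot (C : Crit p U k n w e) : ⁅n.V, pushW w e.V⁆ ≠ ⊥ := fun h => C.crit (n.le_R_iff.mpr h)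

/-- The next to top node has `Y V` non-normal for the target `Y`. -/
theorem head {h : Σ m : Node p S, m.G} (hsm : Small p U k) (C : Crit p U k n (h :: w) e) :
    ¬ ((n.V ⊔ h.1.V).map h.1.τ).Normal := by
  intro hn
  have hh : ¬ h.1.Central U := C.bad h List.mem_cons_self
  have hw : BadW U w := fun d hd => C.bad d (List.mem_cons_of_mem h hd)
  have hlen : w.length + 1 = k := C.length
  have hX : pushW w e.V ∈ lev p U w.length := by
    simpa using pushW_mem_lev hw (mem_lev_zero C.last)
  have hnR : n.V ≤ h.1.R := hsm 0 (by omega) _ (mem_lev_zero C.target) _ hh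
  refine C.ne_bot ?_
  rw [pushW, ← h.1.act_act_inv (g := h.2) hnR]
  refine h.1.act_comm ?_
  have h1 : ⁅n.V ⊔ h.1.V, pushW w e.V⁆ = ⊥ := by
    rw [commutator_eq_bot_iff_le_centralizer]
    exact sup_le
      (commutator_eq_bot_iff_le_centralizer.mp (n.le_R_iff.mp (hsm _ (by omega) _ hX _ C.target)))
      (commutator_eq_bot_iff_le_centralizer.mp (h.1.le_R_iff.mp (hsm _ (by omega) _ hX _ hh)))
  refine le_bot_iff.mp ((commutator_mono ?_ le_rfl).trans h1.le)
  rw [← h.1.map_le_map, h.1.map_act hnR]
  exact (cj_mono (map_mono le_sup_left)).trans (@cj_normal _ _ _ _ hn).le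

/-- The bottom node has `Y V` non-normal for the end `Y`. -/
theorem tail {l : Σ m : Node p S, m.G} (hsm : Small p U k) (C : Crit p U k n (w ++ [l]) e) :
    ¬ ((e.V ⊔ l.1.V).map l.1.τ).Normal := by
  intro hn
  have hl : ¬ l.1.Central U := C.bad l (List.mem_append_right w List.mem_cons_self)
  have hw : BadW U w := fun d hd => C.bad d (List.mem_append_left _ hd)
  have hlen : w.length + 1 = k := by simpa using C.length
  have heR : e.V ≤ l.1.R := hsm 0 (by omega) _ (mem_lev_zero C.last) _ hl
  obtain ⟨ep, -⟩ := push_pullW hsm hw (mem_lev_zero C.target) (by omega)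
  have hP : pullW w n.V ∈ lev p U w.length := by
    simpa using pullW_mem_lev hw (mem_lev_zero C.target)
  refine C.ne_bot ?_
  rw [pushW_append, ← ep]
  refine pushW_comm w ?_
  have h1 : ⁅e.V ⊔ l.1.V, pullW w n.V⁆ = ⊥ := by
    rw [commutator_eq_bot_iff_le_centralizer]
    exact sup_le
      (commutator_eq_bot_iff_le_centralizer.mp (e.le_R_iff.mp (hsm _ (by omega) _ hP _ C.last)))
      (commutator_eq_bot_iff_le_centralizer.mp (l.1.le_R_iff.mp (hsm _ (by omega) _ hP _ hl)))
  rw [commutator_comm]
  refine le_bot_iff.mp ((commutator_mono ?_ le_rfl).trans h1.le)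
  rw [pushW, pushW, ← l.1.map_le_map, l.1.map_act heR]
  exact (cj_mono (map_mono le_sup_left)).trans (@cj_normal _ _ _ _ hn).le

/-- Both ends have the same `q`, and the pullback of the top covers `S / O_p` of the end. -/
theorem q_eq (hsm : Small p U k) (C : Crit p U k n w e) :
    n.q = e.q ∧ pullW w n.V ⊔ e.R = ⊤ := by
  obtain ⟨ep, hgP⟩ := push_pullW hsm C.bad (mem_lev_zero C.target) (by rw [C.length]; omega)
  have hgV := goodW hsm C.bad (mem_lev_zero C.last) (by rw [C.length]; omega)
  set P := pullW w n.V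
  set X := pushW w e.V
  have hPe : ¬ P ≤ e.R := fun h => C.ne_bot (by
    rw [← ep]
    exact pushW_comm w (by rw [commutator_comm]; exact e.le_R_iff.mp h))
  have hPc : Nat.card P = n.q * Nat.card (center S) := by rw [← card_pushW hgP, ep, n.card_V]
  have hXc : Nat.card X = e.q * Nat.card (center S) := by rw [card_pushW hgV, e.card_V]
  have h1 : Nat.card ↥(P ⊓ e.R) ≤ Nat.card (center S) := by
    rw [← card_pushW (hgP.mono inf_le_left)]
    refine card_le_of_le (n.fix' ((pushW_mono w inf_le_left).trans ep.le) C.crit (pushW_comm w ?_))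
    rw [commutator_comm]
    exact le_bot_iff.mp ((commutator_mono le_rfl inf_le_right).trans e.commutator_V_R.le)
  have h2 : Nat.card ↥(X ⊓ n.R) ≤ Nat.card (center S) := by
    obtain ⟨Y, hY, eY⟩ : ∃ Y ≤ e.V, pushW w Y = X ⊓ n.R := by
      have key : ∀ (w : List (Σ m : Node p S, m.G)) (A B : Subgroup S), GoodW w A →
          B ≤ pushW w A → ∃ Y ≤ A, pushW w Y = B := by
        intro w
        induction w with
        | nil => intro A B _ hB; exact ⟨B, hB, rfl⟩
        | cons c w ih =>
          intro A B hA hB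
          have h0 : c.1.act c.2⁻¹ B ≤ pushW w A :=
            (c.1.act_mono hB).trans (c.1.act_inv_act hA.1).le
          obtain ⟨Y, hY, e⟩ := ih A _ hA.2 h0
          exact ⟨Y, hY, by rw [pushW, e, c.1.act_act_inv (hB.trans (c.1.act_le hA.1))]⟩
      exact key w e.V _ hgV inf_le_left
    rw [← eY, card_pushW (hgV.mono hY)]
    refine card_le_of_le (e.fix' hY hPe ?_)
    rw [commutator_comm]
    have h3 : ⁅n.V, pushW w Y⁆ = ⊥ := by rw [eY]; exact n.le_R_iff.mp inf_le_right
    rw [← ep, pushW_commutator hgP (hgV.mono hY)] at h3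
    have h4 := card_pushW (w := w) (X := ⁅P, Y⁆) ?_
    · rw [h3, card_bot, eq_comm] at h4
      exact eq_bot_of_card_eq _ h4
    · have key : ∀ (w : List (Σ m : Node p S, m.G)) (A B : Subgroup S), GoodW w A → GoodW w B →
          GoodW w ⁅A, B⁆ := by
        intro w
        induction w with
        | nil => intros; trivial
        | cons c w ih =>
          intro A B hA hB
          exact ⟨by
            rw [← pushW_commutator hA.2 hB.2]
            exact (commutator_mono hA.1 hB.1).trans (commutator_le_self _), ih A B hA.2 hB.2⟩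
      exact key w _ _ hgP (hgV.mono hY)
  have bound : ∀ (a b : Node p S) (A : Subgroup S), Nat.card A = a.q * Nat.card (center S) →
      Nat.card ↥(A ⊓ b.R) ≤ Nat.card (center S) →
      a.q * Nat.card b.R ≤ Nat.card ↥(A ⊔ b.R) ∧ a.q ≤ b.q := by
    intro a b A hA hi
    have h3 := card_sup_mul_card_inf_of_coe A b.R (mul_normal A b.R)
    have h5 : a.q * Nat.card b.R ≤ Nat.card ↥(A ⊔ b.R) := by
      refine Nat.le_of_mul_le_mul_right ?_ (Nat.card_pos (α := ↥(center S)))
      calc a.q * Nat.card b.R * Nat.card (center S) = Nat.card A * Nat.card b.R := by rw [hA]; ring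
        _ = _ := h3.symm
        _ ≤ _ := Nat.mul_le_mul_left _ hi
    refine ⟨h5, Nat.le_of_mul_le_mul_right ?_ (Nat.card_pos (α := ↥b.R))⟩
    rw [mul_comm b.q, b.card_R]
    exact h5.trans (card_le_card_group (A ⊔ b.R))
  obtain ⟨h5, h6⟩ := bound n e P hPc h1
  have hq := le_antisymm h6 (bound e n X hXc h2).2
  refine ⟨hq, eq_of_le_of_card_ge le_top ?_⟩
  rw [card_top, ← e.card_R, mul_comm, ← hq]
  exact h5

/-- Prolonging a critical word at the target. -/
theorem shift {l : Σ m : Node p S, m.G} (hsm : Small p U k) (C : Crit p U k n (w ++ [l]) e)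
    {j : Node p S} (hj : ¬ j.Central U) (hne : ¬ ((j.V ⊔ n.V).map n.τ).Normal) :
    Crit p U k j (⟨n, n.a⟩ :: w) l.1 := by
  have hl : ¬ l.1.Central U := C.bad l (List.mem_append_right w List.mem_cons_self)
  have hw : BadW U w := fun d hd => C.bad d (List.mem_append_left _ hd)
  have hlen : w.length + 1 = k := by simpa using C.length
  have hwn : BadW U (⟨n, n.a⟩ :: w) := by
    intro d hd
    rcases List.mem_cons.mp hd with rfl | hd
    · exact C.target
    · exact hw d hd
  refine ⟨by simp [hlen], hwn, hj, hl, fun hle => hne ?_⟩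
  have h0 : ⁅j.V, n.act n.a (pushW w l.1.V)⁆ = ⊥ := j.le_R_iff.mp hle
  have hjR : j.V ≤ n.R := hsm 0 (by omega) _ (mem_lev_zero hj) _ C.target
  set Y := n.act n.a⁻¹ j.V with hY
  have hY1 : Y ∈ lev p U 1 := act_mem_lev C.target _ (mem_lev_zero hj)
  have hZR : pushW w l.1.V ≤ n.R :=
    hsm _ (by omega) _ (pushW_mem_lev hw (mem_lev_zero hl)) _ C.target
  have hYZ : ⁅Y, pushW w l.1.V⁆ = ⊥ := by
    rw [hY, ← n.act_inv_act (g := n.a) hZR]
    exact n.act_comm h0
  obtain ⟨eY, hgY⟩ := push_pullW hsm hw hY1 (by omega)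
  set Yb := pullW w Y
  have hYbR : Yb ≤ l.1.R := l.1.le_R_iff.mpr (by
    rw [commutator_comm, ← pull_pushW hsm hw (mem_lev_zero hl) (by omega)]
    exact pullW_comm w hYZ)
  set Y3 := l.1.act l.2⁻¹ Yb
  have hgY3 : GoodW (w ++ [l]) Y3 ∧ pushW (w ++ [l]) Y3 = Y := by
    have e1 : pushW [l] Y3 = Yb := l.1.act_act_inv hYbR
    refine ⟨?_, by rw [pushW_append, e1, eY]⟩
    have key : ∀ (w : List (Σ m : Node p S, m.G)), GoodW w Yb → GoodW (w ++ [l]) Y3 := by
      intro w
      induction w with
      | nil => exact fun _ => ⟨l.1.act_le hYbR, trivial⟩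
      | cons c w ih =>
        exact fun h => ⟨by
          show pushW (w ++ [l]) Y3 ≤ _
          rw [pushW_append, e1]; exact h.1, ih h.2⟩
    exact key w hgY
  have hgV := goodW hsm C.bad (mem_lev_zero C.last) (by rw [C.length]; omega)
  obtain ⟨eP, hgP⟩ := push_pullW hsm C.bad (mem_lev_zero C.target) (by rw [C.length]; omega)
  set P := pullW (w ++ [l]) n.V
  set X := pushW (w ++ [l]) e.V
  have hsub : ⁅Y3, e.V⁆ ≤ ⁅P, e.V⁆ := by
    haveI : (⁅P, e.V⁆).Normal := by
      refine ⟨fun y hy g => ?_⟩
      have : y ∈ center S := e.quad ((commutator_comm P e.V).trans_le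
        (commutator_mono le_rfl le_top) hy)
      rwa [mem_center_iff.mp this g, mul_inv_cancel_right]
    refine (commutator_mono ((C.q_eq hsm).2.ge.trans' le_top) le_rfl).trans
      (commutator_sup_le le_rfl ?_)
    rw [commutator_comm, e.commutator_V_R]
    exact bot_le
  have hYX : ⁅Y, X⁆ ≤ n.V := by
    rw [← hgY3.2, pushW_commutator hgY3.1 hgV]
    refine (pushW_mono _ hsub).trans ?_
    rw [← pushW_commutator hgP hgV, eP]
    haveI : n.V.Normal := Normal.comap inferInstance _
    exact commutator_le_left _ _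
  -- normality
  haveI := pCore_normal p n.G
  obtain ⟨x₀, hx₀, hxR⟩ := SetLike.not_le_iff_exists.mp C.crit
  set B := Y.map n.τ ⊔ zR p n.G with hB
  have hYmap : Y.map n.τ = cj n.a⁻¹ (j.V.map n.τ) := n.map_act hjR
  have hS : cj n.a⁻¹ n.τ.range ≤ normalizer (B : Set n.G) := by
    rintro _ ⟨_, ⟨s, rfl⟩, rfl⟩
    refine mem_normalizer_iff_map_conj_eq.mpr ?_
    rw [hB, Subgroup.map_sup, hYmap]
    refine congrArg₂ (· ⊔ ·) ?_ (cj_normal _ _)
    show cj (MulAut.conj n.a⁻¹ (n.τ s)) (cj n.a⁻¹ (j.V.map n.τ)) = _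
    rw [← cj_mul, MulAut.conj_apply, inv_inv, mul_assoc, mul_inv_cancel, mul_one, cj_mul]
    congr 1
    haveI : j.V.Normal := Normal.comap inferInstance _
    refine le_antisymm (map_le_iff_le_comap.mpr ?_) fun y hy => ?_
    · rintro _ ⟨v, hv, rfl⟩
      exact ⟨s * v * s⁻¹, Normal.conj_mem inferInstance v hv s, by simp⟩
    · obtain ⟨v, hv, rfl⟩ := hy
      exact mem_cj.mpr ⟨s⁻¹ * v * s, by simpa using Normal.conj_mem inferInstance v hv s⁻¹, by simp⟩
  have hx : n.τ x₀ ∈ normalizer (B : Set n.G) := by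
    refine mem_normalizer_iff_map_conj_eq.mpr (eq_of_le_of_card_ge ?_
      (card_map_of_injective (MulAut.conj (n.τ x₀)).injective).ge)
    rw [hB, Subgroup.map_sup]
    refine sup_le ?_ ((cj_normal (n.τ x₀) (zR p n.G)).le.trans le_sup_right)
    rintro _ ⟨_, ⟨y, hy, rfl⟩, rfl⟩
    have hm : n.τ ⁅y, x₀⁆ ∈ zR p n.G :=
      hYX (commutator_mem_commutator hy hx₀)
    have := B.mul_mem (mem_sup_right ((zR p n.G).inv_mem hm)) (mem_sup_left (mem_map_of_mem n.τ hy))
    rw [← map_inv, ← map_mul, commutatorElement_inv, commutatorElement_def] at this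
    simpa [hB, mul_assoc] using this
  have htop : normalizer (B : Set n.G) = ⊤ := by
    rw [eq_top_iff, ← n.core.data.gen (n.τ x₀) ⟨x₀, rfl⟩ hxR]
    exact sup_le (zpowers_le.mpr hx) hS
  haveI := normalizer_eq_top_iff.mp htop
  have e2 : (j.V ⊔ n.V).map n.τ = cj n.a B := by
    rw [hB, cj_sup, hYmap, cj_cj_inv, cj_normal n.a (zR p n.G), Subgroup.map_sup, n.map_V]
  rw [e2, cj_normal n.a B]
  infer_instance

end Crit

end CfsgLib.LocalEven50.Family
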